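import Cfsg.Agent.Lib.M23Uniq.TwentyTwo

/-!
Local data and small degrees in the groups of order 244823040: the sums of the irreducible characters
over the subgroups of orders 23 and 11.
-/

set_option linter.unusedSectionVars false
set_option linter.style.haveILetI false

namespace Cfsg.Agent.M24Uniq

open Cfsg Cfsg.Agent.Char Cfsg.Agent.Blocks Cfsg.Agent.DefOne
open Cfsg.Agent.M23Uniq (dg tsum' fsum pfam_at int_mod_cases dg_principal sgn PFam)

open scoped ComplexConjugate

universe u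

variable {G : Type u} [Group G] [Fintype G]

/-- The local data at the primes 23 and 11 of a simple group of order 244823040. -/
structure Locals (G : Type u) [Group G] : Prop where
  card : Nat.card G = 244823040
  simple : IsSimpleGroup G
  c23 : ∀ x : G, orderOf x = 23 → Nat.card (Subgroup.centralizer ({x} : Set G)) = 23
  c11 : ∀ x : G, orderOf x = 11 → Nat.card (Subgroup.centralizer ({x} : Set G)) = 11
  n23 : ∀ P : Sylow 23 G, Nat.card (Subgroup.normalizer ((P : Subgroup G) : Set G)) = 253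
  n11 : ∀ P : Sylow 11 G, Nat.card (Subgroup.normalizer ((P : Subgroup G) : Set G)) = 110

/-- The small degrees. -/
def smallList : List ℕ := [1, 23, 45, 231, 252, 253]

/-- One irreducible character of degree 23, and no unexpected degree up to 276. -/
structure Small (G : Type u) [Group G] [Fintype G] : Prop where
  exists23 : ∃ χ : IrrCharacter G, dg χ = 23
  unique23 : ∀ χ ψ : IrrCharacter G, dg χ = 23 → dg ψ = 23 → χ = ψ
  list : ∀ χ : IrrCharacter G, dg χ ≤ 276 → dg χ ∈ smallList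

theorem Locals.not_prime (L : Locals G) : ¬ (Nat.card G).Prime := by rw [L.card]; norm_num

theorem Locals.eq_principal (L : Locals G) {χ : IrrCharacter G} (h : dg χ = 1) : χ = principal G :=
  haveI := L.simple
  DefOne.Order7920.eq_principal_of_deg_one L.not_prime h

theorem Locals.sylow_card (L : Locals G) {p : ℕ} [Fact p.Prime] (h1 : p ∣ 244823040)
    (h2 : ¬ p ^ 2 ∣ 244823040) (P : Sylow p G) : Nat.card P = p := by
  have hp : p.Prime := Fact.out
  have hfac : (Nat.card G).factorization p = 1 := by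
    rw [L.card]
    have a1 := (hp.dvd_iff_one_le_factorization (by norm_num : (244823040 : ℕ) ≠ 0)).1 h1
    have a2 : ¬ 2 ≤ (244823040 : ℕ).factorization p := fun h =>
      h2 ((hp.pow_dvd_iff_le_factorization (by norm_num)).2 h)
    omega
  rw [Sylow.card_eq_multiplicity, hfac, pow_one]

/-- The sum over a group of order 11 attached to a degree. -/
def t11 (d : ℕ) : ℤ :=
  if d % 11 = 1 then 10 else if d % 11 = 10 then -10 else 0

theorem tsum23 (L : Locals G) [Fact (Nat.Prime 23)] (P : Sylow 23 G) [Fintype (P : Subgroup G)]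
    (χ : IrrCharacter G) : tsum' (P : Subgroup G) χ = (M23Uniq.t23 (dg χ) : ℂ) := by
  obtain ⟨X, Y, δ, F, hall, hz, -, -⟩ := pfam_at (p := 23) (e := 11) (k := 1) (by norm_num)
    (fun x hx => by rw [L.c23 x hx]) (fun Q => by rw [L.n23 Q]) P
    (L.sylow_card (by norm_num) (by norm_num) P)
  by_cases h : 23 ∣ dg χ
  · rw [hz χ h, M23Uniq.t23]
    simp [Nat.mod_eq_zero_of_dvd h]
  rcases hall rfl χ h with hX | hY
  · rw [F.tX χ hX, M23Uniq.t23, M23Uniq.sgn]
    rcases F.degX χ hX with e | e <;> simp [e]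
  · have h1 := int_mod_cases (d := dg χ) (by norm_num) (F.degY χ hY)
    rw [F.tY χ hY, M23Uniq.t23]
    rcases F.sign with rfl | rfl
    · have e : dg χ % 23 = 12 := by omega
      simp [e]
    · have e : dg χ % 23 = 11 := by omega
      simp [e]

theorem tsum11 (L : Locals G) [Fact (Nat.Prime 11)] (P : Sylow 11 G) [Fintype (P : Subgroup G)]
    (χ : IrrCharacter G) : tsum' (P : Subgroup G) χ = (t11 (dg χ) : ℂ) := by
  obtain ⟨X, Y, δ, F, hall, hz, -, -⟩ := pfam_at (p := 11) (e := 10) (k := 1) (by norm_num)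
    (fun x hx => by rw [L.c11 x hx]) (fun Q => by rw [L.n11 Q]) P
    (L.sylow_card (by norm_num) (by norm_num) P)
  by_cases h : 11 ∣ dg χ
  · rw [hz χ h, t11]
    simp [Nat.mod_eq_zero_of_dvd h]
  rcases hall rfl χ h with hX | hY
  · rw [F.tX χ hX, t11, M23Uniq.sgn]
    rcases F.degX χ hX with e | e <;> simp [e]
  · have h1 := int_mod_cases (d := dg χ) (by norm_num) (F.degY χ hY)
    rw [F.tY χ hY, t11]
    rcases F.sign with rfl | rfl
    · have e : dg χ % 11 = 1 := by omega
      simp [e]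
    · have e : dg χ % 11 = 10 := by omega
      simp [e]

theorem value23 (L : Locals G) {χ : IrrCharacter G} (h : 23 ∣ dg χ) {y : G} (hy : orderOf y = 23) :
    (χ : G → ℂ) y = 0 := by
  haveI : Fact (Nat.Prime 23) := ⟨by norm_num⟩
  obtain ⟨P, hP⟩ := M23Uniq.zpowers_eq_sylow (G := G) (p := 23) (m := 10644480)
    (by rw [L.card]; norm_num) (by norm_num) hy
  haveI : Fintype (P : Subgroup G) := Fintype.ofFinite _
  obtain ⟨X, Y, δ, F, -, -, hz, -⟩ := pfam_at (p := 23) (e := 11) (k := 1) (by norm_num)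
    (fun x hx => by rw [L.c23 x hx]) (fun Q => by rw [L.n23 Q]) P
    (L.sylow_card (by norm_num) (by norm_num) P)
  refine hz χ h y (hP ▸ Subgroup.mem_zpowers y) fun e => ?_
  rw [e, orderOf_one] at hy
  omega

/-- The multiplicities of the small degrees in a character. -/
noncomputable def mult (m : IrrCharacter G → ℕ) (d : ℕ) : ℕ :=
  ∑ ψ ∈ Finset.univ.filter (fun ψ : IrrCharacter G => dg ψ = d), m ψ

theorem le_mult (m : IrrCharacter G → ℕ) (ψ : IrrCharacter G) : m ψ ≤ mult m (dg ψ) :=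
  Finset.single_le_sum (f := fun φ => m φ) (fun _ _ => Nat.zero_le _)
    (Finset.mem_filter.2 ⟨Finset.mem_univ ψ, rfl⟩)

theorem mult_eq {m : IrrCharacter G → ℕ} {ψ : IrrCharacter G} {d : ℕ}
    (h : ∀ φ : IrrCharacter G, dg φ = d → φ = ψ) (hψ : dg ψ = d) : mult m d = m ψ := by
  rw [mult, show Finset.univ.filter (fun φ : IrrCharacter G => dg φ = d) = {ψ} from
    Finset.eq_singleton_iff_unique_mem.2 ⟨Finset.mem_filter.2 ⟨Finset.mem_univ _, hψ⟩,
      fun φ hφ => h φ (Finset.mem_filter.1 hφ).2⟩, Finset.sum_singleton]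

/-- The constituents of a small character. -/
theorem constituents (L : Locals G) (S : Small G) [Fact (Nat.Prime 23)] [Fact (Nat.Prime 11)]
    (Q₁ : Sylow 23 G) [Fintype (Q₁ : Subgroup G)] (Q₂ : Sylow 11 G)
    [Fintype (Q₂ : Subgroup G)] {φ : G → ℂ} (hφ : IsCharacter G φ) {D : ℕ} (hD : φ 1 = D) (hD' : D ≤ 276)
    {v₁ v₂ : ℤ} (h₁ : fsum (Q₁ : Subgroup G) φ = v₁) (h₂ : fsum (Q₂ : Subgroup G) φ = v₂) :
    ∃ m : IrrCharacter G → ℕ, φ = ∑ ψ, (m ψ : ℂ) • (ψ : G → ℂ) ∧
      (∀ ψ, m ψ ≠ 0 → dg ψ ∈ smallList) ∧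
      (D : ℤ) = mult m 1 + 23 * mult m 23 + 45 * mult m 45 + 231 * mult m 231 + 252 * mult m 252 +
        253 * mult m 253 ∧
      v₁ = 22 * mult m 1 - 22 * mult m 45 + 22 * mult m 231 - 22 * mult m 252 ∧
      v₂ = 10 * mult m 1 + 10 * mult m 23 + 10 * mult m 45 - 10 * mult m 252 := by
  classical
  obtain ⟨m, rfl⟩ := IsCharacter.exists_decomp hφ
  have hd : D = ∑ ψ : IrrCharacter G, m ψ * dg ψ := by
    have h : (D : ℂ) = ∑ ψ : IrrCharacter G, (m ψ : ℂ) * (dg ψ : ℂ) := by
      rw [← hD, Finset.sum_apply]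
      exact Finset.sum_congr rfl fun ψ _ => by rw [Pi.smul_apply, smul_eq_mul, irr_one_eq_charDegree]
    exact_mod_cast h
  have hsmall : ∀ ψ, m ψ ≠ 0 → dg ψ ∈ smallList := by
    intro ψ h0
    have h := Finset.single_le_sum (f := fun ψ : IrrCharacter G => m ψ * dg ψ) (fun _ _ => Nat.zero_le _)
      (Finset.mem_univ ψ)
    rw [← hd] at h
    exact S.list ψ (le_trans (Nat.le_mul_of_pos_left _ (Nat.pos_of_ne_zero h0)) (h.trans hD'))
  refine ⟨m, rfl, hsmall, ?_⟩
  have hsplit : ∀ t : ℕ → ℤ, ∑ ψ : IrrCharacter G, (m ψ : ℤ) * t (dg ψ) =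
      (mult m 1 : ℤ) * t 1 + ((mult m 23 : ℤ) * t 23 + ((mult m 45 : ℤ) * t 45 + ((mult m 231 : ℤ) * t 231 +
        ((mult m 252 : ℤ) * t 252 + (mult m 253 : ℤ) * t 253)))) := by
    intro t
    rw [← Finset.sum_filter_of_ne (p := fun ψ : IrrCharacter G => dg ψ ∈ (smallList.toFinset : Finset ℕ))
        (fun ψ _ h => List.mem_toFinset.2 (hsmall ψ fun e => h (by rw [e]; simp))),
      ← Finset.sum_fiberwise_of_maps_to (g := fun ψ : IrrCharacter G => dg ψ)
        (fun ψ hψ => (Finset.mem_filter.1 hψ).2), List.sum_toFinset _ (by decide)]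
    have hfib : ∀ d ∈ smallList,
        ∑ ψ ∈ ((Finset.univ : Finset (IrrCharacter G)).filter
            fun ψ => dg ψ ∈ (smallList.toFinset : Finset ℕ)).filter (fun ψ => dg ψ = d),
          (m ψ : ℤ) * t (dg ψ) = (mult m d : ℤ) * t d := by
      intro d hd
      rw [Finset.sum_congr rfl fun ψ hψ => by rw [(Finset.mem_filter.1 hψ).2], ← Finset.sum_mul,
        Finset.filter_filter, mult, Nat.cast_sum]
      congr 1
      refine Finset.sum_congr (Finset.filter_congr fun ψ _ => ⟨fun h => h.2, fun h => ⟨?_, h⟩⟩) fun _ _ => rfl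
      rw [h]
      exact List.mem_toFinset.2 hd
    rw [List.map_congr_left hfib]
    simp [smallList]
  refine ⟨?_, ?_, ?_⟩
  · have h := hsplit fun d => (d : ℤ)
    rw [hd, Nat.cast_sum, Finset.sum_congr rfl fun ψ _ => Nat.cast_mul (m ψ) (dg ψ), h]
    push_cast
    ring
  · have h := hsplit M23Uniq.t23
    rw [M23Uniq.fsum_combination, Finset.sum_congr rfl fun ψ _ => by rw [tsum23 L Q₁ ψ]] at h₁
    have h' : v₁ = ∑ ψ : IrrCharacter G, (m ψ : ℤ) * M23Uniq.t23 (dg ψ) := by
      exact_mod_cast h₁.symm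
    rw [h', h]
    norm_num [M23Uniq.t23]
    ring
  · have h := hsplit t11
    rw [M23Uniq.fsum_combination, Finset.sum_congr rfl fun ψ _ => by rw [tsum11 L Q₂ ψ]] at h₂
    have h' : v₂ = ∑ ψ : IrrCharacter G, (m ψ : ℤ) * t11 (dg ψ) := by
      exact_mod_cast h₂.symm
    rw [h', h]
    norm_num [t11]
    ring

end Cfsg.Agent.M24Uniq
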