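import Cfsg.Agent.Lib.M24Uniq.FamiliesBase

/-!
The families at 5.
-/

set_option linter.unusedSectionVars false
set_option linter.style.haveILetI false

namespace Cfsg.Agent.M24Uniq

open Cfsg Cfsg.Agent.Char Cfsg.Agent.Blocks Cfsg.Agent.CCSylow Cfsg.Agent.DefOne
open Cfsg.Agent.M23Uniq (dg)

open scoped ComplexConjugate

universe u

/-- The characters of a group of order twelve with three involutions and eight elements of order three. -/
theorem chars_twelve {V : Type u} [Group V] [Fintype V] (hV : Nat.card V = 12)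
    (h2 : Nat.card {v : V // orderOf v = 2} = 3) (h3 : Nat.card {v : V // orderOf v = 3} = 8)
    {one : IrrCharacter V} (h1 : charDegree (one : V → ℂ) = 1) (hone : ∀ v, (one : V → ℂ) v = 1) :
    ∃ b2 b4 b3 : IrrCharacter V, b2 ≠ one ∧ b4 ≠ one ∧ b2 ≠ b4 ∧ galT starRingAut b2 = b4 ∧
      charDegree (b2 : V → ℂ) = 1 ∧ charDegree (b4 : V → ℂ) = 1 ∧ charDegree (b3 : V → ℂ) = 3 ∧
      ∀ b, b = one ∨ b = b2 ∨ b = b4 ∨ b = b3 := by
  classical
  haveI : Fact (Nat.Prime 2) := ⟨Nat.prime_two⟩
  haveI : Fact (Nat.Prime 3) := ⟨Nat.prime_three⟩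
  have hpart : ∀ v : V, v = 1 ∨ orderOf v = 2 ∨ orderOf v = 3 := by
    intro v
    by_contra hne
    push Not at hne
    have hc : ((Finset.univ.filter fun v : V => orderOf v = 2) ∪
        (Finset.univ.filter fun v : V => orderOf v = 3) ∪ {1, v}).card ≤ 12 := by
      rw [← hV, Nat.card_eq_fintype_card]; exact Finset.card_le_univ _
    have d1 : Disjoint (Finset.univ.filter fun v : V => orderOf v = 2)
        (Finset.univ.filter fun v : V => orderOf v = 3) := Finset.disjoint_filter.2 fun _ _ a b => by omega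
    have d2 : Disjoint ((Finset.univ.filter fun v : V => orderOf v = 2) ∪
        (Finset.univ.filter fun v : V => orderOf v = 3)) {1, v} := by
      rw [Finset.disjoint_right]
      intro z hz hz'
      rcases Finset.mem_insert.1 hz with r | r
      · subst r; simp at hz'
      · rw [Finset.mem_singleton] at r; subst r; simp [hne.2.1, hne.2.2] at hz'
    rw [Finset.card_union_of_disjoint d2, Finset.card_union_of_disjoint d1,
      Finset.card_pair (Ne.symm hne.1), ← Fintype.card_subtype, ← Fintype.card_subtype,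
      ← Nat.card_eq_fintype_card, ← Nat.card_eq_fintype_card, h2, h3] at hc
    omega
  obtain ⟨S⟩ : Nonempty (Sylow 2 V) := inferInstance
  have hS : Nat.card (S : Subgroup V) = 4 := by
    rw [Small.sylow_card (k := 2) (m := 3) (by rw [hV]; norm_num) (by norm_num) S]; norm_num
  have hmem : ∀ v : V, v ∈ (S : Subgroup V) ↔ v * v = 1 := by
    have hsub : ∀ v ∈ (S : Subgroup V), v * v = 1 := fun v hv => by
      rcases hpart v with r | r | r
      · rw [r, one_mul]
      · rw [← pow_two, ← r, pow_orderOf_eq_one]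
      · have := Subgroup.orderOf_dvd_natCard _ hv
        rw [r, hS] at this
        omega
    have hA : (Finset.univ.filter fun v : V => v * v = 1).card ≤ 4 := by
      have hle : (Finset.univ.filter fun v : V => v * v = 1) ⊆
          insert 1 (Finset.univ.filter fun v : V => orderOf v = 2) := by
        intro v hv
        simp only [Finset.mem_filter, Finset.mem_univ, true_and, Finset.mem_insert] at hv ⊢
        rcases hpart v with r | r | r
        · exact Or.inl r
        · exact Or.inr r
        · exfalso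
          have := orderOf_dvd_of_pow_eq_one (show v ^ 2 = 1 by rw [pow_two, hv])
          rw [r] at this
          omega
      refine (Finset.card_le_card hle).trans ((Finset.card_insert_le _ _).trans ?_)
      rw [← Fintype.card_subtype, ← Nat.card_eq_fintype_card, h2]
    have heq : (Finset.univ.filter fun v : V => v ∈ (S : Subgroup V)) =
        Finset.univ.filter fun v : V => v * v = 1 := by
      refine Finset.eq_of_subset_of_card_le (fun v hv => ?_) (hA.trans (le_of_eq ?_))
      · simp only [Finset.mem_filter, Finset.mem_univ, true_and] at hv ⊢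
        exact hsub v hv
      · rw [← Fintype.card_subtype, ← Nat.card_eq_fintype_card]; exact hS.symm
    intro v
    have h := Finset.ext_iff.1 heq v
    simpa using h
  haveI hSn : (S : Subgroup V).Normal := ⟨fun v hv g => by
    rw [hmem] at hv ⊢
    rw [show g * v * g⁻¹ * (g * v * g⁻¹) = g * (v * v) * g⁻¹ by group, hv, mul_one, mul_inv_cancel]⟩
  have hSc : IsMulCommutative (S : Subgroup V) := ⟨⟨fun a b => Subtype.ext (by
    have ha := inv_eq_of_mul_eq_one_right ((hmem _).1 a.2)
    have hb := inv_eq_of_mul_eq_one_right ((hmem _).1 b.2)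
    have hab := inv_eq_of_mul_eq_one_right ((hmem _).1 (mul_mem a.2 b.2))
    show (a : V) * b = b * a
    rw [← hab, mul_inv_rev, ha, hb])⟩⟩
  have hidx : (S : Subgroup V).index = 3 := by
    have h := (S : Subgroup V).card_mul_index
    rw [hS, hV] at h
    omega
  have hdeg : ∀ b : IrrCharacter V, charDegree (b : V → ℂ) = 1 ∨ charDegree (b : V → ℂ) = 3 := fun b =>
    (Nat.dvd_prime Nat.prime_three).1 (hidx ▸ Char.Ito.degree_dvd_index _ hSc b)
  have hnc : ¬ IsMulCommutative V := fun hc => by
    obtain ⟨T⟩ : Nonempty (Sylow 3 V) := inferInstance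
    have hT : Nat.card (T : Subgroup V) = 3 := by
      rw [Small.sylow_card (k := 1) (m := 4) (by rw [hV]; norm_num) (by norm_num) T, pow_one]
    haveI : (T : Subgroup V).Normal := ⟨fun n hn g => by
      rwa [hc.is_comm.comm g n, mul_inv_cancel_right]⟩
    haveI : Unique (Sylow 3 V) := T.unique_of_normal ‹_›
    have h := M12Uniq.count_prime (H := V) (p := 3) (m := 4) (by rw [hV]) (by norm_num)
    rw [h3, Nat.card_unique] at h
    omega
  have hsum := Cfsg.Agent.CharX.sum_deg_sq (G := V)
  rw [hV] at hsum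
  set A := (Finset.univ : Finset (IrrCharacter V)).filter
    fun b : IrrCharacter V => charDegree (b : V → ℂ) = 1 with hA
  set B := (Finset.univ : Finset (IrrCharacter V)).filter
    fun b : IrrCharacter V => ¬ charDegree (b : V → ℂ) = 1 with hB
  have hs : A.card + B.card * 9 = 12 := by
    rw [← Finset.sum_filter_add_sum_filter_not Finset.univ
      (fun b : IrrCharacter V => charDegree (b : V → ℂ) = 1), ← hA, ← hB] at hsum
    rw [Finset.sum_congr rfl fun b hb => by rw [(Finset.mem_filter.1 hb).2],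
      Finset.sum_congr (s₁ := B) rfl fun b hb =>
        by rw [(hdeg b).resolve_left (Finset.mem_filter.1 hb).2],
      Finset.sum_const, Finset.sum_const, smul_eq_mul, smul_eq_mul] at hsum
    omega
  have hB0 : B.card ≠ 0 := fun h0 => hnc (Char.Ito.comm_of_all_linear fun χ => by
    have : χ ∉ B := by rw [Finset.card_eq_zero.1 h0]; simp
    rw [irr_one_eq_charDegree, show charDegree (χ : V → ℂ) = 1 by simpa [hB] using this, Nat.cast_one])
  obtain ⟨b3, hb3⟩ := Finset.card_eq_one.1 (show B.card = 1 by omega)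
  have h1A : one ∈ A := Finset.mem_filter.2 ⟨Finset.mem_univ _, h1⟩
  obtain ⟨b2, b4, hne, hb24⟩ := Finset.card_eq_two.1 (show (A.erase one).card = 2 by
    rw [Finset.card_erase_of_mem h1A]; omega)
  have hb2m : b2 ∈ A.erase one := by rw [hb24]; exact Finset.mem_insert_self _ _
  have hb4m : b4 ∈ A.erase one := by
    rw [hb24]; exact Finset.mem_insert_of_mem (Finset.mem_singleton_self _)
  have hb3m : b3 ∈ B := by rw [hb3]; exact Finset.mem_singleton_self _
  have hd2 := (Finset.mem_filter.1 (Finset.mem_of_mem_erase hb2m)).2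
  have hall : ∀ b, b = one ∨ b = b2 ∨ b = b4 ∨ b = b3 := by
    intro b
    by_cases hb : charDegree (b : V → ℂ) = 1
    · by_cases hb1 : b = one
      · exact Or.inl hb1
      · have h : b ∈ A.erase one := Finset.mem_erase.2
          ⟨hb1, Finset.mem_filter.2 ⟨Finset.mem_univ _, hb⟩⟩
        rw [hb24, Finset.mem_insert, Finset.mem_singleton] at h
        rcases h with h | h
        · exact Or.inr (Or.inl h)
        · exact Or.inr (Or.inr (Or.inl h))
    · exact Or.inr (Or.inr (Or.inr (Finset.mem_singleton.1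
        (hb3 ▸ Finset.mem_filter.2 ⟨Finset.mem_univ _, hb⟩))))
  refine ⟨b2, b4, b3, Finset.ne_of_mem_erase hb2m, Finset.ne_of_mem_erase hb4m, hne, ?_, hd2,
    (Finset.mem_filter.1 (Finset.mem_of_mem_erase hb4m)).2,
    (hdeg b3).resolve_left (Finset.mem_filter.1 hb3m).2, hall⟩
  rcases hall (galT starRingAut b2) with r | r | r | r
  · exfalso
    refine Finset.ne_of_mem_erase hb2m (Subtype.ext (funext fun v => ?_))
    have h := congrFun (congrArg Subtype.val r) v
    rw [galT_apply, hone] at h
    rw [hone]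
    have h' := congrArg (starRingEnd ℂ) h
    simpa using h'
  · exfalso
    obtain ⟨l, hl⟩ := exists_hom_of_degree_one (IsIrrCharacter.isCharacter b2.2) (by
      rw [irr_one_eq_charDegree, hd2, Nat.cast_one])
    have hker : ∀ v : V, orderOf v = 3 → v ∈ l.ker := by
      intro v hv
      have hreal : conj ((l v : ℂˣ) : ℂ) = (l v : ℂˣ) := by
        have h := congrFun (congrArg Subtype.val r) v
        rw [galT_apply, hl] at h
        exact h
      have hcube : ((l v : ℂˣ) : ℂ) ^ 3 = 1 := by
        rw [← Units.val_pow_eq_pow_val, ← map_pow, ← hv, pow_orderOf_eq_one, map_one, Units.val_one]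
      obtain ⟨x, hx⟩ := Complex.conj_eq_iff_real.1 hreal
      rw [hx, ← Complex.ofReal_pow] at hcube
      have hx3 : x ^ 3 = 1 := by exact_mod_cast hcube
      have hx1 : x = 1 := by nlinarith [sq_nonneg (x + 1), sq_nonneg (x - 1), sq_nonneg x]
      rw [MonoidHom.mem_ker]
      exact Units.ext (by rw [hx, hx1]; simp)
    have hk : 9 ≤ Nat.card l.ker := by
      have hle : insert 1 (Finset.univ.filter fun v : V => orderOf v = 3) ⊆
          Finset.univ.filter fun v : V => v ∈ l.ker := by
        intro v hv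
        simp only [Finset.mem_filter, Finset.mem_univ, true_and, Finset.mem_insert] at hv ⊢
        rcases hv with r | r
        · rw [r]; exact one_mem _
        · exact hker v r
      have h := Finset.card_le_card hle
      rw [Finset.card_insert_of_notMem (by simp), ← Fintype.card_subtype, ← Fintype.card_subtype,
        ← Nat.card_eq_fintype_card, ← Nat.card_eq_fintype_card, h3] at h
      exact h
    have hd : Nat.card l.ker ∣ 12 := hV ▸ Subgroup.card_subgroup_dvd_card _
    have h12 : Nat.card l.ker = 12 := by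
      have := Nat.le_of_dvd (by norm_num) hd
      interval_cases (Nat.card l.ker) <;> omega
    refine Finset.ne_of_mem_erase hb2m (Subtype.ext (funext fun v => ?_))
    have hv : v ∈ l.ker := by
      rw [Subgroup.eq_top_of_card_eq _ (h12.trans hV.symm)]; exact Subgroup.mem_top _
    rw [hl, hone]
    show ((l v : ℂˣ) : ℂ) = 1
    rw [MonoidHom.mem_ker.1 hv, Units.val_one]
  · exact r
  · exfalso
    have h := galT_one starRingAut b2
    rw [r, irr_one_eq_charDegree, irr_one_eq_charDegree, hd2,
      (hdeg b3).resolve_left (Finset.mem_filter.1 hb3m).2] at h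
    norm_num at h

variable {G : Type u} [Group G] [Fintype G]

theorem inR_conj {p : ℕ} {P V N : Subgroup G} {e : ℕ} (K : Conf p P V N e) [Fintype P] [Fintype V]
    [Fintype N] [Fintype (P →* ℂˣ)] {χ : IrrCharacter G} {b : IrrCharacter V} (h : InR K χ b) :
    InR K (galT starRingAut χ) (galT starRingAut b) := by
  by_contra hn
  refine not_inR_of_phi_eq_zero K (fun y hy => ?_) h
  have h0 := phi_eq_zero_of_not_inR K hn hy
  have h1 : phi (galT starRingAut χ : G → ℂ) (galT starRingAut b) y =
      conj (phi (χ : G → ℂ) b y) := by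
    simp only [phi, map_mul, map_inv₀, map_natCast, map_sum]
    rfl
  rw [h1] at h0
  exact (map_eq_zero (starRingEnd ℂ)).1 h0

theorem galT_star_star {H : Type*} [Group H] [Fintype H] (b : IrrCharacter H) :
    galT starRingAut (galT starRingAut b) = b :=
  Subtype.ext (funext fun v => Complex.conj_conj ((b : H → ℂ) v))

/-- The families at 5 of a configuration with a complement of type `A₄`. -/
theorem five_families_conf {P : Sylow 5 G} {V : Subgroup G}
    (K : Conf 5 (P : Subgroup G) V (Subgroup.normalizer ((P : Subgroup G) : Set G)) 4)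
    [Fintype (P : Subgroup G)] [Fintype V] [Fintype (Subgroup.normalizer ((P : Subgroup G) : Set G))]
    [Fintype ((P : Subgroup G) →* ℂˣ)] {M : Ideal AlgInt} [M.IsPrime] (hM : IsPModular 5 M)
    (hV : Nat.card V = 12) (h2 : Nat.card {v : V // orderOf v = 2} = 3)
    (h3 : Nat.card {v : V // orderOf v = 3} = 8) :
    ∃ X₁ Y₁ X₃ Y₃ : Finset (IrrCharacter G),
      Fam 5 4 1 1 1 X₁ Y₁ ∧ Fam 5 4 1 3 3 X₃ Y₃ ∧ (principal G ∈ X₁ ∨ principal G ∈ Y₁) ∧
      ((∃ X₂ Y₂ : Finset (IrrCharacter G), Fam 5 2 2 2 1 X₂ Y₂ ∧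
        (X₁.val + Y₁.val + (X₂.val + Y₂.val) + (X₃.val + Y₃.val) =
          ((Finset.univ : Finset (IrrCharacter G)).filter fun χ => ¬ 5 ∣ dg χ).val)) ∨
      ∃ X₂ Y₂ X₄ Y₄ : Finset (IrrCharacter G), Fam 5 4 1 1 1 X₂ Y₂ ∧ Fam 5 4 1 1 1 X₄ Y₄ ∧
        ((X₄.val + Y₄.val).map fun χ => dg χ) = ((X₂.val + Y₂.val).map fun χ => dg χ) ∧
        (X₁.val + Y₁.val + (X₂.val + Y₂.val + (X₄.val + Y₄.val)) + (X₃.val + Y₃.val) =
          ((Finset.univ : Finset (IrrCharacter G)).filter fun χ => ¬ 5 ∣ dg χ).val)) ∧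
      ∀ χ, χ ∈ principalBlock M G ↔ χ ∈ X₁ ∨ χ ∈ Y₁ := by
  classical
  have hd1 : charDegree (trivB V : V → ℂ) = 1 := by
    have h := irr_one_eq_charDegree (trivB V)
    rw [show (trivB V : V → ℂ) 1 = ((1 : ℕ) : ℂ) by simp [trivB]] at h
    exact_mod_cast h.symm
  obtain ⟨b2, b4, b3, hb2, hb4, hne, hcj, hd2, hd4, hd3, hall⟩ :=
    chars_twelve hV h2 h3 hd1 (fun v => rfl)
  have o1 := card_orbB_triv (G := G) K
  have o3 : (orbB K b3).card = 1 := card_orbB_one K fun b' hb' => by
    rcases hall b' with r | r | r | r <;> subst r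
    · omega
    · omega
    · omega
    · rfl
  have horb : ∀ b, b ≠ trivB V → charDegree (b : V → ℂ) = 1 → ∀ b' ∈ orbB K b, b' = b2 ∨ b' = b4 := by
    intro b hb hd b' hb'
    obtain ⟨w, rfl⟩ := (mem_orbB K).1 hb'
    rcases hall (bT K.D w b) with r | r | r | r
    · exfalso
      refine hb ?_
      rw [← bT_one K b, ← mul_inv_cancel w, bT_mul K, r]
      exact Subtype.ext (funext fun _ => rfl)
    · exact Or.inl r
    · exact Or.inr r
    · exfalso
      have h := bT_apply_one K w b
      rw [r, irr_one_eq_charDegree, irr_one_eq_charDegree, hd, hd3] at h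
      norm_num at h
  obtain ⟨X₁, Y₁, δ₁, s₁, F₁, A₁, -, -⟩ := exists_fam hM K (trivB V) (o := 1) (eb := 4) (m := 1)
    (a := 1) (c := 1) o1 hd1 rfl rfl rfl rfl (by norm_num) rfl (by norm_num) (by norm_num)
  obtain ⟨X₃, Y₃, δ₃, s₃, F₃, A₃, -, -⟩ := exists_fam hM K b3 (o := 1) (eb := 4) (m := 1)
    (a := 3) (c := 3) o3 hd3 rfl rfl rfl rfl (by norm_num) rfl (by norm_num) (by norm_num)
  have hdisj : ∀ {b b' : IrrCharacter V} {χ : IrrCharacter G}, b' ∉ orbB K b →
      InR K χ b → InR K χ b' → False := fun hn h h' => hn (orb_of_inR hM K h h')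
  have h12 : ∀ b, b ≠ trivB V → b ∉ orbB K (trivB V) := fun b hb h =>
    hb (Finset.card_le_one.1 o1.le _ h _ ((mem_orbB K).2 ⟨1, bT_one K _⟩))
  have h32 : ∀ b, b ≠ b3 → b ∉ orbB K b3 := fun b hb h =>
    hb (Finset.card_le_one.1 o3.le _ h _ ((mem_orbB K).2 ⟨1, bT_one K _⟩))
  have h31 : b3 ≠ trivB V := fun h => by rw [h, hd1] at hd3; omega
  have h23 : b2 ≠ b3 := fun h => by rw [← h, hd2] at hd3; omega
  have h43 : b4 ≠ b3 := fun h => by rw [← h, hd4] at hd3; omega
  refine ⟨X₁, Y₁, X₃, Y₃, A₁, A₃,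
    (principal_mem hM K F₁).imp id (fun h => by rw [h]; exact Finset.mem_singleton_self _), ?_, fun χ => by
      rw [principal_eq K hM F₁]; simp⟩
  have hself : ∀ b : IrrCharacter V, b ∈ orbB K b := fun b => (mem_orbB K).2 ⟨1, bT_one K b⟩
  by_cases hswap : b4 ∈ orbB K b2
  · left
    have o2 : (orbB K b2).card = 2 := by
      rw [show orbB K b2 = {b2, b4} from Finset.Subset.antisymm
        (fun b hb => by
          rcases horb b2 hb2 hd2 b hb with r | r <;> simp [r])
        (fun b hb => by
          rcases Finset.mem_insert.1 hb with r | r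
          · rw [r]; exact hself b2
          · rw [Finset.mem_singleton.1 r]; exact hswap), Finset.card_pair hne]
    obtain ⟨X₂, Y₂, δ₂, s₂, F₂, A₂, -, -⟩ := exists_fam hM K b2 (o := 2) (eb := 2) (m := 2)
      (a := 2) (c := 1) o2 hd2 rfl rfl rfl rfl (by norm_num) rfl (by norm_num) (by norm_num)
    refine ⟨X₂, Y₂, A₂, union_eq hM K ?_ fun χ => ?_⟩
    · refine Multiset.nodup_add.2 ⟨Multiset.nodup_add.2 ⟨nodup_union K F₁, nodup_union K F₂, ?_⟩,
        nodup_union K F₃, ?_⟩
      · exact Multiset.disjoint_left.2 fun h h' =>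
          hdisj (h12 b2 hb2) ((mem_union_iff K F₁ _).1 h) ((mem_union_iff K F₂ _).1 h')
      · refine Multiset.disjoint_left.2 fun h h' => ?_
        rcases Multiset.mem_add.1 h with h | h
        · exact hdisj (h12 b3 h31) ((mem_union_iff K F₁ _).1 h) ((mem_union_iff K F₃ _).1 h')
        · exact hdisj (h32 b2 h23) ((mem_union_iff K F₃ _).1 h') ((mem_union_iff K F₂ _).1 h)
    · rw [Multiset.mem_add, Multiset.mem_add (s := X₁.val + Y₁.val), mem_union_iff K F₁,
        mem_union_iff K F₂, mem_union_iff K F₃]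
      constructor
      · rintro ((h | h) | h) <;> exact ⟨_, h⟩
      · rintro ⟨b, hb⟩
        rcases hall b with r | r | r | r <;> subst r
        · exact Or.inl (Or.inl hb)
        · exact Or.inl (Or.inr hb)
        · obtain ⟨w, hw⟩ := (mem_orbB K).1 hswap
          rw [← hw, inR_bT] at hb
          exact Or.inl (Or.inr hb)
        · exact Or.inr hb
  · right
    have o2 : (orbB K b2).card = 1 := by
      refine Finset.card_eq_one.2 ⟨b2, Finset.eq_singleton_iff_unique_mem.2 ⟨hself b2, fun b hb => ?_⟩⟩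
      exact (horb b2 hb2 hd2 b hb).resolve_right fun r => hswap (r ▸ hb)
    have o4 : (orbB K b4).card = 1 := by
      refine Finset.card_eq_one.2 ⟨b4, Finset.eq_singleton_iff_unique_mem.2 ⟨hself b4, fun b hb => ?_⟩⟩
      refine (horb b4 hb4 hd4 b hb).resolve_left fun r => hswap ?_
      rw [r] at hb
      obtain ⟨w, hw⟩ := (mem_orbB K).1 hb
      rw [← hw, orbB_bT K w b4]
      exact hself b4
    obtain ⟨X₂, Y₂, δ₂, s₂, F₂, A₂, -, -⟩ := exists_fam hM K b2 (o := 1) (eb := 4) (m := 1)
      (a := 1) (c := 1) o2 hd2 rfl rfl rfl rfl (by norm_num) rfl (by norm_num) (by norm_num)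
    obtain ⟨X₄, Y₄, δ₄, s₄, F₄, A₄, -, -⟩ := exists_fam hM K b4 (o := 1) (eb := 4) (m := 1)
      (a := 1) (c := 1) o4 hd4 rfl rfl rfl rfl (by norm_num) rfl (by norm_num) (by norm_num)
    refine ⟨X₂, Y₂, X₄, Y₄, A₂, A₄, ?_, union_eq hM K ?_ fun χ => ?_⟩
    · have heq : X₄.val + Y₄.val = (X₂.val + Y₂.val).map (galT starRingAut) := by
        refine (Multiset.Nodup.ext (nodup_union K F₄)
          ((nodup_union K F₂).map (galT_injective _))).2 fun χ => ?_
        rw [mem_union_iff K F₄, Multiset.mem_map]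
        constructor
        · intro h
          refine ⟨galT starRingAut χ, (mem_union_iff K F₂ _).2 ?_, galT_star_star χ⟩
          have h' := inR_conj K h
          rwa [← hcj, galT_star_star] at h'
        · rintro ⟨ψ, hψ, rfl⟩
          exact hcj ▸ inR_conj K ((mem_union_iff K F₂ _).1 hψ)
      rw [heq, Multiset.map_map]
      refine Multiset.map_congr rfl fun χ _ => ?_
      have h := galT_one starRingAut χ
      rw [irr_one_eq_charDegree, irr_one_eq_charDegree] at h
      exact_mod_cast h
    · refine Multiset.nodup_add.2 ⟨Multiset.nodup_add.2 ⟨nodup_union K F₁,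
        Multiset.nodup_add.2 ⟨nodup_union K F₂, nodup_union K F₄, ?_⟩, ?_⟩, nodup_union K F₃, ?_⟩
      · exact Multiset.disjoint_left.2 fun h h' =>
          hdisj hswap ((mem_union_iff K F₂ _).1 h) ((mem_union_iff K F₄ _).1 h')
      · refine Multiset.disjoint_left.2 fun h h' => ?_
        rcases Multiset.mem_add.1 h' with h' | h'
        · exact hdisj (h12 b2 hb2) ((mem_union_iff K F₁ _).1 h) ((mem_union_iff K F₂ _).1 h')
        · exact hdisj (h12 b4 hb4) ((mem_union_iff K F₁ _).1 h) ((mem_union_iff K F₄ _).1 h')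
      · refine Multiset.disjoint_left.2 fun h h' => ?_
        rcases Multiset.mem_add.1 h with h | h
        · exact hdisj (h12 b3 h31) ((mem_union_iff K F₁ _).1 h) ((mem_union_iff K F₃ _).1 h')
        · rcases Multiset.mem_add.1 h with h | h
          · exact hdisj (h32 b2 h23) ((mem_union_iff K F₃ _).1 h') ((mem_union_iff K F₂ _).1 h)
          · exact hdisj (h32 b4 h43) ((mem_union_iff K F₃ _).1 h') ((mem_union_iff K F₄ _).1 h)
    · rw [Multiset.mem_add, Multiset.mem_add (s := X₁.val + Y₁.val),
        Multiset.mem_add (s := X₂.val + Y₂.val), mem_union_iff K F₁, mem_union_iff K F₂,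
        mem_union_iff K F₄, mem_union_iff K F₃]
      constructor
      · rintro ((h | h | h) | h) <;> exact ⟨_, h⟩
      · rintro ⟨b, hb⟩
        rcases hall b with r | r | r | r <;> subst r
        · exact Or.inl (Or.inl hb)
        · exact Or.inl (Or.inr (Or.inl hb))
        · exact Or.inl (Or.inr (Or.inr hb))
        · exact Or.inr hb


/-- The data at 5 from the local data. -/
theorem five_of_locals (hG : Nat.card G = 244823040)
    (c5 : ∀ x : G, orderOf x = 5 → Nat.card (Subgroup.centralizer ({x} : Set G)) = 60)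
    (n5 : ∀ P : Sylow 5 G, Nat.card (Subgroup.normalizer ((P : Subgroup G) : Set G)) = 240)
    (hcnt : ∀ x : G, orderOf x = 5 →
      Nat.card {g : G // g ∈ Subgroup.centralizer ({x} : Set G) ∧ orderOf g = 2} = 3 ∧
      Nat.card {g : G // g ∈ Subgroup.centralizer ({x} : Set G) ∧ orderOf g = 3} = 8) : Five G := by
  classical
  haveI : Fact (Nat.Prime 5) := ⟨by norm_num⟩
  obtain ⟨P⟩ : Nonempty (Sylow 5 G) := inferInstance
  have hP : Nat.card P = 5 := by
    rw [Small.sylow_card (k := 1) (m := 48964608) (by rw [hG]; norm_num) (by norm_num) P, pow_one]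
  obtain ⟨V, e, K, -⟩ := exists_conf (by norm_num) P hP
  haveI : Fintype ((P : Subgroup G) →* ℂˣ) := Fintype.ofFinite _
  haveI : Fintype (P : Subgroup G) := Fintype.ofFinite _
  haveI : Fintype V := Fintype.ofFinite _
  haveI : Fintype (Subgroup.normalizer ((P : Subgroup G) : Set G)) := Fintype.ofFinite _
  obtain ⟨y₀, hy₀⟩ := exists_ne_one_P K
  have hy1 : (y₀ : G) ≠ 1 := fun h => hy₀ (Subtype.ext h)
  have ho := DefOne.orderOf_P K y₀.2 hy1
  have hV : Nat.card V = 12 := by
    have h := M22Uniq.cent_card K ho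
    rw [c5 _ ho] at h
    omega
  obtain rfl : e = 4 := by
    have h := n5 P
    rw [K.D.hcard, K.hP, hV] at h
    omega
  obtain ⟨h2, h3⟩ := hcnt _ ho
  rw [card_order_eq K y₀.2 hy1 (by norm_num)] at h2 h3
  obtain ⟨M, hM⟩ := exists_isPModular_witness 5
  haveI := IsPModular.isPrime hM
  obtain ⟨X₁, Y₁, X₃, Y₃, A₁, A₃, hp, hcase, -⟩ := five_families_conf K hM hV h2 h3
  exact ⟨X₁, Y₁, X₃, Y₃, A₁, A₃, hp, hcase⟩

end Cfsg.Agent.M24Uniq
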