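import Cfsg.Agent.Lib.M24Uniq.Families
import Cfsg.Agent.Lib.M24Join.Sound
import Cfsg.Agent.Lib.M12Uniq.Tools

/-!
The families at 7 and at 5 of a group of order 244823040 with the data at 23 and 11 determine the small
degrees.
-/

set_option linter.unusedSectionVars false
set_option linter.style.haveILetI false

namespace Cfsg.Agent.M24Uniq

open Cfsg Cfsg.Agent.Char Cfsg.Agent.Blocks Cfsg.Agent.DefOne
open Cfsg.Agent.M23Uniq (dg degMS tsum' pfam_at int_mod_cases dg_principal sum_degMS)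
open Cfsg.Agent.M24Join (b2n pm fM pN pZ p5 sM cqT u11 u23 rowsP rowsU gM Rel sS)

open scoped ComplexConjugate

universe u

/-- A possible degree. -/
def okDeg (d : ℕ) : Bool :=
  Nat.beq (244823040 % d) 0 && Nat.ble (d * d) 244823040 &&
    (Nat.beq (d % 23) 0 || pm 23 1 d || pm 23 11 d) && (Nat.beq (d % 11) 0 || pm 11 1 d)

theorem okDeg_check : M24Join.scan.allBelowR (fun a => M24Join.scan.allBelowR
    (fun b => !(okDeg (125 * a + b)) || Golay.Local.memF (125 * a + b) M24Join.pool) 124) 125 = true := by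
  decide +kernel

theorem mem_pool_of_ok {d : ℕ} (h : okDeg d = true) : d ∈ M24Join.pool := by
  have hd : d * d ≤ 244823040 := by
    simp only [okDeg, Bool.and_eq_true, M24Join.ble_iff] at h
    exact h.1.1.2
  have hlt : d < 15750 := by
    by_contra h'
    push Not at h'
    have := Nat.mul_le_mul h' h'
    omega
  have h2 := M24Join.allBelowR_spec (M24Join.allBelowR_spec okDeg_check (d / 125) (by omega)) (d % 125) (by omega)
  rw [Nat.div_add_mod, h] at h2
  simpa [Golay.Local.memF_iff] using h2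

variable {G : Type u} [Group G] [Fintype G]

theorem sum_b2n (q : ℕ → Bool) (S : Finset (IrrCharacter G)) (h : ∀ χ, q (dg χ) = true ↔ χ ∈ S) :
    ((degMS G).map fun d => b2n (q d)).sum = S.card := by
  classical
  rw [sum_degMS, Finset.card_eq_sum_ones, ← Finset.sum_filter_add_sum_filter_not Finset.univ (· ∈ S)]
  have h1 : ∑ χ ∈ Finset.univ.filter (fun χ : IrrCharacter G => ¬ χ ∈ S), b2n (q (dg χ)) = 0 :=
    Finset.sum_eq_zero fun χ hχ => by
      rw [show q (dg χ) = false from Bool.eq_false_iff.2 fun e => (Finset.mem_filter.1 hχ).2 ((h χ).1 e)]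
      rfl
  rw [h1, add_zero, Finset.filter_univ_mem]
  exact Finset.sum_congr rfl fun χ hχ => by rw [(h χ).2 hχ]; rfl

/-- The residues at 23 and 11. -/
theorem stats (L : Locals G) :
    ((degMS G).map fun d => b2n (pm 23 1 d)).sum = 11 ∧ ((degMS G).map fun d => b2n (pm 23 11 d)).sum = 2 ∧
    ((degMS G).map fun d => b2n (pm 11 1 d)).sum = 11 ∧
    ∀ χ : IrrCharacter G, (dg χ % 23 = 0 ∨ pm 23 1 (dg χ) = true ∨ pm 23 11 (dg χ) = true) ∧
      (dg χ % 11 = 0 ∨ pm 11 1 (dg χ) = true) := by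
  classical
  haveI : Fact (Nat.Prime 23) := ⟨by norm_num⟩
  haveI : Fact (Nat.Prime 11) := ⟨by norm_num⟩
  obtain ⟨P⟩ : Nonempty (Sylow 23 G) := inferInstance
  obtain ⟨Q⟩ : Nonempty (Sylow 11 G) := inferInstance
  haveI : Fintype (P : Subgroup G) := Fintype.ofFinite _
  haveI : Fintype (Q : Subgroup G) := Fintype.ofFinite _
  obtain ⟨X, Y, δ, F, hall, -, -, -⟩ := pfam_at (p := 23) (e := 11) (k := 1) (by norm_num)
    (fun x hx => by rw [L.c23 x hx]) (fun R => by rw [L.n23 R]) P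
    (L.sylow_card (by norm_num) (by norm_num) P)
  obtain ⟨X', Y', δ', F', hall', -, -, -⟩ := pfam_at (p := 11) (e := 10) (k := 1) (by norm_num)
    (fun x hx => by rw [L.c11 x hx]) (fun R => by rw [L.n11 R]) Q
    (L.sylow_card (by norm_num) (by norm_num) Q)
  have hX : ∀ χ ∈ X, dg χ % 23 = 1 ∨ dg χ % 23 = 22 := F.degX
  have hY : ∀ χ ∈ Y, dg χ % 23 = 11 ∨ dg χ % 23 = 12 := fun χ h => by
    have h1 := int_mod_cases (d := dg χ) (by norm_num) (F.degY χ h)
    rcases F.sign with rfl | rfl <;> omega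
  have hX' : ∀ χ ∈ X' ∪ Y', dg χ % 11 = 1 ∨ dg χ % 11 = 10 := fun χ h => by
    rcases Finset.mem_union.1 h with h | h
    · exact F'.degX χ h
    · have h1 := int_mod_cases (d := dg χ) (by norm_num) (F'.degY χ h)
      rcases F'.sign with rfl | rfl <;> omega
  have h23 : ∀ χ, dg χ % 23 = 0 ∨ χ ∈ X ∨ χ ∈ Y := fun χ => by
    by_cases h : 23 ∣ dg χ
    · exact Or.inl (Nat.mod_eq_zero_of_dvd h)
    · exact Or.inr (hall rfl χ h)
  have h11 : ∀ χ, dg χ % 11 = 0 ∨ χ ∈ X' ∪ Y' := fun χ => by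
    by_cases h : 11 ∣ dg χ
    · exact Or.inl (Nat.mod_eq_zero_of_dvd h)
    · exact Or.inr (Finset.mem_union.2 (hall' rfl χ h))
  have iX : ∀ χ, pm 23 1 (dg χ) = true ↔ χ ∈ X := fun χ => by
    simp only [pm, Bool.or_eq_true, M24Join.beq_iff]
    refine ⟨fun h => ?_, fun h => hX χ h⟩
    rcases h23 χ with e | e | e
    · omega
    · exact e
    · have := hY χ e; omega
  have iY : ∀ χ, pm 23 11 (dg χ) = true ↔ χ ∈ Y := fun χ => by
    simp only [pm, Bool.or_eq_true, M24Join.beq_iff]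
    refine ⟨fun h => ?_, fun h => hY χ h⟩
    rcases h23 χ with e | e | e
    · omega
    · have := hX χ e; omega
    · exact e
  have iX' : ∀ χ, pm 11 1 (dg χ) = true ↔ χ ∈ X' ∪ Y' := fun χ => by
    simp only [pm, Bool.or_eq_true, M24Join.beq_iff]
    exact ⟨fun h => (h11 χ).resolve_left (by omega), fun h => hX' χ h⟩
  refine ⟨?_, ?_, ?_, fun χ => ⟨(h23 χ).imp id (Or.imp (iX χ).2 (iY χ).2), (h11 χ).imp id (iX' χ).2⟩⟩
  · rw [sum_b2n _ X iX, F.cardX]
  · rw [sum_b2n _ Y iY]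
    have := F.cardY
    omega
  · rw [sum_b2n _ _ iX', Finset.card_union_of_disjoint F'.disj, F'.cardX]
    have := F'.cardY
    omega

/-- The relation of a family summed over a subgroup of order prime to `p`. -/
theorem Fam.rel_tsum {p n m a c : ℕ} {X Y : Finset (IrrCharacter G)} (F : Fam p n m a c X Y) (hp : p.Prime)
    (Q : Subgroup G) [Fintype Q] (hQ : ¬ p ∣ Nat.card Q) {θ : IrrCharacter G} (hθ : θ ∈ Y) :
    ∑ χ ∈ X, (rsgn p a (dg χ) : ℂ) * tsum' Q χ + (rsgn p c (dg θ) : ℂ) * tsum' Q θ = 0 := by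
  have hd := F.rel θ hθ 1 (by simpa using hp.ne_one)
  simp only [irr_one_eq_charDegree] at hd
  have hy : ∀ y : Q, ¬ p ∣ orderOf (y : G) := fun y h => hQ (h.trans (Subgroup.orderOf_dvd_natCard Q y.2))
  have hsum : ∑ y : Q, (∑ χ ∈ X, (rsgn p a (dg χ) : ℂ) * (χ : G → ℂ) y +
      (rsgn p c (dg θ) : ℂ) * (θ : G → ℂ) y) = 0 := Finset.sum_eq_zero fun y _ => F.rel θ hθ _ (hy y)
  rw [Finset.sum_add_distrib, Finset.sum_comm, ← Finset.mul_sum] at hsum
  simp only [← Finset.mul_sum] at hsum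
  simp only [tsum', mul_sub, Finset.sum_sub_distrib]
  linear_combination hsum - hd

theorem sS_rowsP (p a c : ℕ) (h : ℕ → ℤ) (X : Finset (IrrCharacter G)) (y : ℕ) :
    sS p h (rowsP a c (X.val.map fun χ => dg χ) y) =
      ∑ χ ∈ X, rsgn p a (dg χ) * h (dg χ) + rsgn p c y * h y := by
  simp only [sS, rowsP, Multiset.map_add, Multiset.sum_add, Multiset.map_singleton, Multiset.sum_singleton,
    Multiset.map_map]
  rfl

/-- The three relations of a family. -/
theorem Fam.toRel (L : Locals G) {p n m a c : ℕ} {X Y : Finset (IrrCharacter G)} (F : Fam p n m a c X Y)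
    (hp : p.Prime) (h23 : ¬ p ∣ 23) (h11 : ¬ p ∣ 11) {θ : IrrCharacter G} (hθ : θ ∈ Y) :
    Rel p (rowsP a c (X.val.map fun χ => dg χ) (dg θ)) := by
  classical
  haveI : Fact (Nat.Prime 23) := ⟨by norm_num⟩
  haveI : Fact (Nat.Prime 11) := ⟨by norm_num⟩
  obtain ⟨Q₁⟩ : Nonempty (Sylow 23 G) := inferInstance
  obtain ⟨Q₂⟩ : Nonempty (Sylow 11 G) := inferInstance
  haveI : Fintype (Q₁ : Subgroup G) := Fintype.ofFinite _
  haveI : Fintype (Q₂ : Subgroup G) := Fintype.ofFinite _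
  refine ⟨?_, ?_, ?_⟩
  · have h := F.rel θ hθ 1 (by simpa using hp.ne_one)
    simp only [irr_one_eq_charDegree] at h
    rw [sS_rowsP]
    exact_mod_cast h
  · have h := F.rel_tsum hp (Q₁ : Subgroup G)
      (by rw [show Nat.card (Q₁ : Subgroup G) = 23 from L.sylow_card (by norm_num) (by norm_num) Q₁]; exact h23) hθ
    simp only [tsum23 L Q₁] at h
    rw [sS_rowsP]
    unfold M24Join.u23
    exact_mod_cast h
  · have h := F.rel_tsum hp (Q₂ : Subgroup G)
      (by rw [show Nat.card (Q₂ : Subgroup G) = 11 from L.sylow_card (by norm_num) (by norm_num) Q₂]; exact h11) hθ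
    simp only [tsum11 L Q₂] at h
    rw [sS_rowsP, show u11 = t11 from rfl]
    exact_mod_cast h

theorem Fam.exists_mem {p n m a c : ℕ} {X Y : Finset (IrrCharacter G)} (F : Fam p n m a c X Y) (hm : 0 < m) :
    ∃ θ, θ ∈ Y := Finset.card_pos.1 (F.cardY.symm ▸ hm)

theorem Fam.mapY {p n m a c : ℕ} {X Y : Finset (IrrCharacter G)} (F : Fam p n m a c X Y) {θ : IrrCharacter G}
    (hθ : θ ∈ Y) : (Y.val.map fun χ => dg χ) = Multiset.replicate m (dg θ) := by
  refine Multiset.eq_replicate.2 ⟨by rw [Multiset.card_map]; exact F.cardY, fun d hd => ?_⟩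
  obtain ⟨η, hη, rfl⟩ := Multiset.mem_map.1 hd
  exact F.eqY η hη θ hθ

theorem Fam.pmX {p n m a c : ℕ} {X Y : Finset (IrrCharacter G)} (F : Fam p n m a c X Y) :
    ∀ d ∈ X.val.map (fun χ => dg χ), pm p a d = true := fun d hd => by
  obtain ⟨χ, hχ, rfl⟩ := Multiset.mem_map.1 hd
  simp only [pm, Bool.or_eq_true, M24Join.beq_iff]
  exact F.degX χ hχ

theorem Fam.pmY {p n m a c : ℕ} {X Y : Finset (IrrCharacter G)} (F : Fam p n m a c X Y) {θ : IrrCharacter G}
    (hθ : θ ∈ Y) : pm p c (dg θ) = true := by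
  simp only [pm, Bool.or_eq_true, M24Join.beq_iff]
  exact F.degY θ hθ

/-- A family of one residue: `n + 1` members. -/
theorem Fam.single (L : Locals G) {p n a : ℕ} {X Y : Finset (IrrCharacter G)} (F : Fam p n 1 a a X Y)
    (hp : p.Prime) (h23 : ¬ p ∣ 23) (h11 : ¬ p ∣ 11) :
    Rel p (rowsU a ((X.val + Y.val).map fun χ => dg χ)) ∧
      Multiset.card ((X.val + Y.val).map fun χ => dg χ) = n + 1 ∧
      ∀ d ∈ (X.val + Y.val).map (fun χ => dg χ), pm p a d = true := by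
  obtain ⟨θ, hθ⟩ := F.exists_mem Nat.one_pos
  have hY := F.mapY hθ
  rw [Multiset.replicate_one] at hY
  refine ⟨?_, ?_, fun d hd => ?_⟩
  · have h := F.toRel L hp h23 h11 hθ
    rw [Multiset.map_add, hY, rowsU, Multiset.map_add, Multiset.map_singleton]
    exact h
  · rw [Multiset.card_map, Multiset.card_add]
    exact congrArg₂ (· + ·) F.cardX F.cardY
  · rw [Multiset.map_add, hY, Multiset.mem_add, Multiset.mem_singleton] at hd
    rcases hd with hd | rfl
    · exact F.pmX d hd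
    · exact F.pmY hθ

/-- A family with a member taken twice. -/
theorem Fam.pair {p n a c : ℕ} {X Y : Finset (IrrCharacter G)} (F : Fam p n 2 a c X Y) {θ : IrrCharacter G}
    (hθ : θ ∈ Y) : (X.val + Y.val).map (fun χ => dg χ) = gM (X.val.map fun χ => dg χ) (dg θ) := by
  rw [Multiset.map_add, F.mapY hθ]
  rfl

theorem cast_cqT {a c : ℕ} (b : ℕ) {X Y : Finset (IrrCharacter G)} (F : Fam 7 3 2 a c X Y)
    (hv : PairVal a c (b : ℤ) X Y) {x : G} (hx : orderOf x = 7) {θ : IrrCharacter G} (hθ : θ ∈ Y) :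
    ((X.val + Y.val).map fun χ : IrrCharacter G => ((χ : G → ℂ) x + (χ : G → ℂ) x⁻¹) ^ 2 * (u11 (dg χ) : ℂ) *
      ((244823040 / dg χ : ℕ) : ℂ)).sum = (cqT b (X.val.map fun χ => dg χ) (dg θ) : ℂ) := by
  obtain ⟨hX, hY⟩ := hv x hx
  have hsq : ∀ p a d, ((rsgn p a d : ℤ) : ℂ) ^ 2 = 1 := fun p a d => by
    unfold rsgn
    split_ifs <;> simp
  rw [Multiset.map_add, Multiset.sum_add]
  have eY : (Y.val.map fun χ : IrrCharacter G => ((χ : G → ℂ) x + (χ : G → ℂ) x⁻¹) ^ 2 * (u11 (dg χ) : ℂ) *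
      ((244823040 / dg χ : ℕ) : ℂ)) = Multiset.replicate 2
        ((b : ℂ) ^ 2 * (u11 (dg θ) : ℂ) * ((244823040 / dg θ : ℕ) : ℂ)) := by
    refine Multiset.eq_replicate.2 ⟨by rw [Multiset.card_map]; exact F.cardY, fun z hz => ?_⟩
    obtain ⟨η, hη, rfl⟩ := Multiset.mem_map.1 hz
    rw [hY η hη, F.eqY η hη θ hθ]
    push_cast
    rw [mul_pow, hsq]
    ring
  have eX : (X.val.map fun χ : IrrCharacter G => ((χ : G → ℂ) x + (χ : G → ℂ) x⁻¹) ^ 2 * (u11 (dg χ) : ℂ) *
      ((244823040 / dg χ : ℕ) : ℂ)) = X.val.map fun χ : IrrCharacter G =>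
        (((4 * b * b : ℤ) * u11 (dg χ) * (244823040 / dg χ : ℕ) : ℤ) : ℂ) := by
    refine Multiset.map_congr rfl fun χ hχ => ?_
    rw [hX χ hχ]
    generalize 244823040 / dg χ = k
    push_cast
    rw [mul_pow, hsq]
    ring
  rw [eX, eY, Multiset.sum_replicate, cqT, Multiset.map_map]
  simp only [Int.cast_add, nsmul_eq_mul]
  congr 1
  · rw [← Finset.sum_eq_multiset_sum, ← Int.cast_sum]
    rfl
  · simp only [M24Join.NN]
    generalize 244823040 / dg θ = k
    push_cast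
    ring

/-- The congruence from the class constants of `x^±1` and an element of order 11. -/
theorem dvd_sum_pairs (L : Locals G) {x : G}
    (hc : Nat.card (Subgroup.centralizer ({x} : Set G)) = 42)
    (hc' : Nat.card (Subgroup.centralizer ({x⁻¹} : Set G)) = 42) :
    ∃ n : ℕ, ((1764 * n : ℕ) : ℂ) = ∑ χ : IrrCharacter G, ((χ : G → ℂ) x + (χ : G → ℂ) x⁻¹) ^ 2 *
      (u11 (dg χ) : ℂ) * ((244823040 / dg χ : ℕ) : ℂ) := by
  classical
  haveI : Fact (Nat.Prime 11) := ⟨by norm_num⟩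
  obtain ⟨Q⟩ : Nonempty (Sylow 11 G) := inferInstance
  haveI : Fintype (Q : Subgroup G) := Fintype.ofFinite _
  choose n hn using fun (g : G) (k : G) (y : G) => M12Uniq.structure_count g k y
  refine ⟨∑ y ∈ (Finset.univ : Finset (Q : Subgroup G)).erase 1,
    (n x x y + n x x⁻¹ y + n x⁻¹ x y + n x⁻¹ x⁻¹ y), ?_⟩
  have hy : ∀ y : G, ((1764 * (n x x y + n x x⁻¹ y + n x⁻¹ x y + n x⁻¹ x⁻¹ y) : ℕ) : ℂ) =
      ∑ χ : IrrCharacter G, ((χ : G → ℂ) x + (χ : G → ℂ) x⁻¹) ^ 2 * ((244823040 / dg χ : ℕ) : ℂ) *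
        conj ((χ : G → ℂ) y) := by
    intro y
    have h1 := hn x x y
    have h2 := hn x x⁻¹ y
    have h3 := hn x⁻¹ x y
    have h4 := hn x⁻¹ x⁻¹ y
    simp only [hc, hc', L.card] at h1 h2 h3 h4
    have hdiv : ∀ χ : IrrCharacter G, ((244823040 / dg χ : ℕ) : ℂ) = 244823040 / (χ : G → ℂ) 1 := fun χ => by
      have hdvd : dg χ ∣ 244823040 := L.card ▸ CharX.irr_deg_dvd_card χ
      rw [Nat.cast_div hdvd (Nat.cast_ne_zero.2 (CharX.irr_deg_pos χ).ne'), irr_one_eq_charDegree]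
      norm_num
    have hterm : ∀ χ : IrrCharacter G, ((χ : G → ℂ) x + (χ : G → ℂ) x⁻¹) ^ 2 * ((244823040 / dg χ : ℕ) : ℂ) *
        conj ((χ : G → ℂ) y) = 244823040 * ((χ : G → ℂ) x * (χ : G → ℂ) x * conj ((χ : G → ℂ) y) / (χ : G → ℂ) 1) +
        244823040 * ((χ : G → ℂ) x * (χ : G → ℂ) x⁻¹ * conj ((χ : G → ℂ) y) / (χ : G → ℂ) 1) +
        244823040 * ((χ : G → ℂ) x⁻¹ * (χ : G → ℂ) x * conj ((χ : G → ℂ) y) / (χ : G → ℂ) 1) +
        244823040 * ((χ : G → ℂ) x⁻¹ * (χ : G → ℂ) x⁻¹ * conj ((χ : G → ℂ) y) / (χ : G → ℂ) 1) := fun χ => by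
      rw [hdiv]
      ring
    rw [Finset.sum_congr rfl fun χ _ => hterm χ, Finset.sum_add_distrib, Finset.sum_add_distrib,
      Finset.sum_add_distrib, ← Finset.mul_sum, ← Finset.mul_sum, ← Finset.mul_sum, ← Finset.mul_sum]
    push_cast at h1 h2 h3 h4 ⊢
    linear_combination h1 + h2 + h3 + h4
  rw [Finset.mul_sum, Nat.cast_sum, Finset.sum_congr rfl (fun (y : (Q : Subgroup G)) _ => hy (y : G)), Finset.sum_comm]
  refine Finset.sum_congr rfl fun χ _ => ?_
  rw [← Finset.mul_sum, ← map_sum, ← M23Uniq.tsum'_eq, tsum11 L Q χ, show u11 = t11 from rfl, map_intCast]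
  ring

theorem fM_degMS {q : ℕ → Bool} {s : Multiset (IrrCharacter G)} {r : IrrCharacter G → Prop} [DecidablePred r]
    (hs : s = (Finset.univ.filter r).val) (h : ∀ χ, q (dg χ) = true ↔ r χ) :
    fM q (degMS G) = s.map fun χ => dg χ := by
  rw [hs, fM, degMS, Multiset.filter_map, Finset.filter_val]
  congr 1
  exact Multiset.filter_congr fun χ _ => h χ

theorem pN_iff (d : ℕ) : pN d = true ↔ ¬ 7 ∣ d := by
  simp [pN, M24Join.beq_iff, Nat.dvd_iff_mod_eq_zero, Bool.eq_false_iff]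

theorem p5_iff (d : ℕ) : p5 d = true ↔ ¬ 5 ∣ d := by
  simp [p5, M24Join.beq_iff, Nat.dvd_iff_mod_eq_zero, Bool.eq_false_iff]

/-- The degrees: possible ones, one trivial and the sum of the squares. -/
theorem degMS_basic (L : Locals G) : (∀ d ∈ degMS G, d ∈ M24Join.pool) ∧ (degMS G).count 1 = 1 ∧
    ((degMS G).map fun d => d * d).sum = M24Join.NN := by
  classical
  obtain ⟨-, -, -, hres⟩ := stats L
  refine ⟨fun d hd => ?_, ?_, ?_⟩
  · obtain ⟨χ, -, rfl⟩ := Multiset.mem_map.1 hd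
    refine mem_pool_of_ok ?_
    have hdvd : dg χ ∣ 244823040 := L.card ▸ CharX.irr_deg_dvd_card χ
    have hle : dg χ * dg χ ≤ 244823040 := by
      rw [← L.card, ← CharX.sum_deg_sq, ← pow_two]
      exact Finset.single_le_sum (f := fun ψ : IrrCharacter G => dg ψ ^ 2) (fun _ _ => Nat.zero_le _)
        (Finset.mem_univ χ)
    simp only [okDeg, Bool.and_eq_true, Bool.or_eq_true, M24Join.beq_iff, M24Join.ble_iff]
    exact ⟨⟨⟨Nat.mod_eq_zero_of_dvd hdvd, hle⟩, or_assoc.2 (hres χ).1⟩, (hres χ).2⟩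
  · rw [degMS, Multiset.count_map, ← Finset.filter_val]
    show (Finset.univ.filter fun χ : IrrCharacter G => 1 = dg χ).card = 1
    rw [Finset.card_eq_one]
    exact ⟨principal G, Finset.eq_singleton_iff_unique_mem.2 ⟨Finset.mem_filter.2 ⟨Finset.mem_univ _,
      dg_principal.symm⟩, fun χ hχ => L.eq_principal (Finset.mem_filter.1 hχ).2.symm⟩⟩
  · show ((degMS G).map fun d => d * d).sum = M24Join.NN
    rw [sum_degMS, M24Join.NN, ← L.card, ← CharX.sum_deg_sq]
    exact Finset.sum_congr rfl fun χ _ => (pow_two _).symm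

set_option maxHeartbeats 1000000 in
theorem degData (L : Locals G) (h7 : Seven G) (h5 : Five G) : M24Join.DegData (degMS G) := by
  classical
  obtain ⟨s1, s2, s3, -⟩ := stats L
  obtain ⟨b1, b2, b3⟩ := degMS_basic L
  refine ⟨b1, b2, b3, s1, s2, s3, ?_, ?_⟩
  · obtain ⟨X₁, Y₁, X₂, Y₂, X₃, Y₃, F₁, F₂, F₃, hp1, V₁, V₂, V₃, hall⟩ := h7.families
    obtain ⟨θ₁, hθ₁⟩ := F₁.exists_mem (by norm_num)
    obtain ⟨θ₂, hθ₂⟩ := F₂.exists_mem (by norm_num)
    obtain ⟨θ₃, hθ₃⟩ := F₃.exists_mem (by norm_num)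
    have hX₁ : X₁.val.map (fun χ => dg χ) =
        ↑([1] : List ℕ) + (X₁.val.erase (principal G)).map fun χ => dg χ := by
      rw [Multiset.coe_singleton, Multiset.singleton_add]
      conv_lhs => rw [← Multiset.cons_erase hp1, Multiset.map_cons, dg_principal]
    refine ⟨(X₁.val.erase (principal G)).map fun χ => dg χ, dg θ₁, X₂.val.map fun χ => dg χ, dg θ₂,
      X₃.val.map fun χ => dg χ, dg θ₃, ⟨?_, fun d hd => ?_, F₁.pmY hθ₁, ?_⟩,
      ⟨?_, F₂.pmX, F₂.pmY hθ₂, ?_⟩, ⟨?_, F₃.pmX, F₃.pmY hθ₃, ?_⟩, ?_, ?_⟩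
    · rw [Multiset.card_map, Multiset.card_erase_of_mem hp1]
      exact congrArg Nat.pred F₁.cardX
    · exact F₁.pmX d (by rw [hX₁]; exact Multiset.mem_add.2 (Or.inr hd))
    · rw [← hX₁]; exact F₁.toRel L (by norm_num) (by norm_num) (by norm_num) hθ₁
    · rw [Multiset.card_map]; exact F₂.cardX
    · rw [zero_add]; exact F₂.toRel L (by norm_num) (by norm_num) (by norm_num) hθ₂
    · rw [Multiset.card_map]; exact F₃.cardX
    · rw [zero_add]; exact F₃.toRel L (by norm_num) (by norm_num) (by norm_num) hθ₃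
    · rw [fM_degMS hall (fun χ => pN_iff _), Multiset.map_add, Multiset.map_add, F₁.pair hθ₁, F₂.pair hθ₂,
        F₃.pair hθ₃, hX₁, Multiset.coe_singleton]
      simp only [gM, ← Multiset.singleton_add]
      abel
    · haveI : Fact (Nat.Prime 7) := ⟨by norm_num⟩
      obtain ⟨x, hx⟩ := exists_prime_orderOf_dvd_card' (G := G) 7 (by rw [L.card]; norm_num)
      obtain ⟨n, hn⟩ := dvd_sum_pairs L (h7.c7 x hx) (h7.c7 x⁻¹ (by rw [orderOf_inv, hx]))
      rw [← hX₁]
      refine ⟨n, ?_⟩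
      rw [← Finset.sum_filter_add_sum_filter_not Finset.univ (fun χ : IrrCharacter G => ¬ 7 ∣ dg χ),
        Finset.sum_eq_zero (s := Finset.univ.filter fun χ : IrrCharacter G => ¬ ¬ 7 ∣ dg χ) (fun χ hχ => by
          have hd := not_not.1 (Finset.mem_filter.1 hχ).2
          rw [h7.zero χ hd x hx, h7.zero χ hd x⁻¹ (by rw [orderOf_inv, hx])]
          simp), add_zero, Finset.sum_eq_multiset_sum, ← hall, Multiset.map_add, Multiset.map_add,
        Multiset.sum_add, Multiset.sum_add, cast_cqT 1 F₁ V₁ hx hθ₁, cast_cqT 1 F₂ V₂ hx hθ₂,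
        cast_cqT 2 F₃ V₃ hx hθ₃] at hn
      exact_mod_cast hn.symm
  · obtain ⟨X₁, Y₁, X₃, Y₃, F₁, F₃, hp1, hcase⟩ := h5.families
    obtain ⟨r1, c1, m1⟩ := F₁.single L (by norm_num) (by norm_num) (by norm_num)
    obtain ⟨r3, c3, m3⟩ := F₃.single L (by norm_num) (by norm_num) (by norm_num)
    have hp1' : principal G ∈ X₁.val + Y₁.val := Multiset.mem_add.2 hp1
    have hS : (X₁.val + Y₁.val).map (fun χ => dg χ) =
        ↑([1] : List ℕ) + ((X₁.val + Y₁.val).erase (principal G)).map fun χ => dg χ := by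
      rw [Multiset.coe_singleton, Multiset.singleton_add]
      conv_lhs => rw [← Multiset.cons_erase hp1', Multiset.map_cons, dg_principal]
    refine ⟨((X₁.val + Y₁.val).erase (principal G)).map fun χ => dg χ, (X₃.val + Y₃.val).map fun χ => dg χ,
      ?_, fun d hd => m1 d (by rw [hS]; exact Multiset.mem_add.2 (Or.inr hd)), c3, m3, hS ▸ r1, r3, ?_⟩
    · rw [hS, Multiset.card_add] at c1
      simp only [Multiset.coe_singleton, Multiset.card_singleton] at c1
      omega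
    rcases hcase with ⟨X₂, Y₂, F₂, hall⟩ | ⟨X₂, Y₂, X₄, Y₄, F₂, F₄, h24, hall⟩
    · obtain ⟨θ₂, hθ₂⟩ := F₂.exists_mem (by norm_num)
      refine Or.inl ⟨X₂.val.map fun χ => dg χ, dg θ₂, by rw [Multiset.card_map]; exact F₂.cardX, F₂.pmX,
        F₂.pmY hθ₂, F₂.toRel L (by norm_num) (by norm_num) (by norm_num) hθ₂, ?_⟩
      rw [fM_degMS hall (fun χ => p5_iff _), Multiset.map_add, Multiset.map_add, F₂.pair hθ₂, hS,
        Multiset.coe_singleton]
      simp only [← Multiset.singleton_add]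
      abel
    · obtain ⟨r2, c2, m2⟩ := F₂.single L (by norm_num) (by norm_num) (by norm_num)
      refine Or.inr ⟨(X₂.val + Y₂.val).map fun χ => dg χ, c2, m2, r2, ?_⟩
      rw [fM_degMS hall (fun χ => p5_iff _), Multiset.map_add, Multiset.map_add,
        Multiset.map_add (fun χ : IrrCharacter G => dg χ) (X₂.val + Y₂.val), h24, hS,
        Multiset.coe_singleton]
      simp only [← Multiset.singleton_add]
      abel

/-- The small degrees. -/
theorem small_of_families (L : Locals G) (h7 : Seven G) (h5 : Five G) : Small G := by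
  classical
  obtain ⟨h23, hle⟩ := M24Join.small_degrees (degData L h7 h5)
  rw [degMS, Multiset.count_map, ← Finset.filter_val] at h23
  change (Finset.univ.filter fun χ : IrrCharacter G => 23 = dg χ).card = 1 at h23
  obtain ⟨χ, hχ⟩ := Finset.card_eq_one.1 h23
  have hmem : ∀ ψ : IrrCharacter G, dg ψ = 23 → ψ = χ := fun ψ h =>
    Finset.mem_singleton.1 (hχ ▸ Finset.mem_filter.2 ⟨Finset.mem_univ _, h.symm⟩)
  refine ⟨⟨χ, (Finset.mem_filter.1 (hχ.symm ▸ Finset.mem_singleton_self χ :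
    χ ∈ Finset.univ.filter fun χ : IrrCharacter G => 23 = dg χ)).2.symm⟩,
    fun a b ha hb => (hmem a ha).trans (hmem b hb).symm, fun ψ hψ => ?_⟩
  simpa [smallList] using hle (dg ψ) (Multiset.mem_map.2 ⟨ψ, Finset.mem_univ_val ψ, rfl⟩) hψ

end Cfsg.Agent.M24Uniq
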