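import Cfsg.Agent.Lib.M24Uniq.Main
import Cfsg.Agent.Lib.M23Order.Locals

/-!
A simple group of order 244823040 with the data at 23 and 11 and the small degrees is M24.
-/

set_option linter.unusedSectionVars false

namespace Cfsg.Agent.M24Uniq

open Cfsg

universe u

/-- The recognition, with the data of the point stabiliser derived from its order. -/
theorem nonempty_equiv_of_small {G : Type u} [Group G] [Fintype G] (L : Locals G) (S : Small G) :
    Nonempty (G ≃* ↥Cfsg.M24) :=
  nonempty_equiv L S fun H _ _ h => haveI := h.1; M23Order.locals_of_card H h.2

end Cfsg.Agent.M24Uniq
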