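import Cfsg.Agent.Lib.M24Uniq.FamiliesBase

/-!
The three families at 7.
-/

set_option linter.unusedSectionVars false
set_option linter.style.haveILetI false

namespace Cfsg.Agent.M24Uniq

open Cfsg Cfsg.Agent.Char Cfsg.Agent.Blocks Cfsg.Agent.CCSylow Cfsg.Agent.DefOne
open Cfsg.Agent.M23Uniq (dg)

open scoped ComplexConjugate

universe u

/-- The six units as two triples. -/
theorem units_seven_split : ∀ k j : (ZMod 7)ˣ, k * k * k = 1 → k ≠ 1 →
    (Finset.univ : Finset (ZMod 7)ˣ) =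
        [j, k * j, k * k * j, -j, -(k * j), -(k * k * j)].toFinset ∧
      ([j, k * j, k * k * j, -j, -(k * j), -(k * k * j)] : List (ZMod 7)ˣ).Nodup := by
  decide

theorem half {f : (ZMod 7)ˣ → ℤ} {k : (ZMod 7)ˣ} (hk3 : k * k * k = 1) (hk1 : k ≠ 1)
    (hinv : ∀ i, f (k * i) = f i) {δ : ℤ} (hs : ∑ i, f i = 3 * δ) (j : (ZMod 7)ˣ) :
    f j + f (-j) = δ := by
  obtain ⟨huniv, hnd⟩ := units_seven_split k j hk3 hk1
  have h : ∑ i, f i =
      f j + (f (k * j) + (f (k * k * j) + (f (-j) + (f (-(k * j)) + f (-(k * k * j)))))) := by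
    rw [huniv, List.sum_toFinset _ hnd]
    simp
  have e1 : f (k * k * j) = f j := by rw [mul_assoc, hinv, hinv]
  have e2 : f (-(k * j)) = f (-j) := by rw [← mul_neg, hinv]
  have e3 : f (-(k * k * j)) = f (-j) := by rw [← mul_neg, mul_assoc, hinv, hinv]
  rw [hs, hinv, e1, e2, e3] at h
  omega

/-- The characters of a nonabelian group of order six. -/
theorem chars_six {V : Type u} [Group V] [Fintype V] (hV : Nat.card V = 6)
    (hna : ¬ IsMulCommutative V) {one : IrrCharacter V} (h1 : charDegree (one : V → ℂ) = 1) :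
    ∃ b2 b3 : IrrCharacter V, b2 ≠ one ∧ charDegree (b2 : V → ℂ) = 1 ∧ charDegree (b3 : V → ℂ) = 2 ∧
      ∀ b, b = one ∨ b = b2 ∨ b = b3 := by
  classical
  have hsum := Cfsg.Agent.CharX.sum_deg_sq (G := V)
  rw [hV] at hsum
  have hdeg : ∀ b : IrrCharacter V, charDegree (b : V → ℂ) = 1 ∨ charDegree (b : V → ℂ) = 2 := by
    intro b
    have h := Finset.single_le_sum (f := fun χ : IrrCharacter V => charDegree (χ : V → ℂ) ^ 2)
      (fun _ _ => Nat.zero_le _) (Finset.mem_univ b)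
    rw [hsum] at h
    have h' : charDegree (b : V → ℂ) * charDegree (b : V → ℂ) ≤ 6 := by rw [← pow_two]; exact h
    have hpos := charDegree_pos b
    have hlt : charDegree (b : V → ℂ) < 3 := by
      by_contra hc
      have := Nat.mul_le_mul (Nat.not_lt.1 hc) (Nat.not_lt.1 hc)
      omega
    omega
  set A := (Finset.univ : Finset (IrrCharacter V)).filter
    fun b : IrrCharacter V => charDegree (b : V → ℂ) = 1 with hA
  set B := (Finset.univ : Finset (IrrCharacter V)).filter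
    fun b : IrrCharacter V => ¬ charDegree (b : V → ℂ) = 1 with hB
  have hs : A.card + B.card * 4 = 6 := by
    rw [← Finset.sum_filter_add_sum_filter_not Finset.univ
      (fun b : IrrCharacter V => charDegree (b : V → ℂ) = 1), ← hA, ← hB] at hsum
    rw [Finset.sum_congr rfl fun b hb => by rw [(Finset.mem_filter.1 hb).2],
      Finset.sum_congr (s₁ := B) rfl fun b hb =>
        by rw [(hdeg b).resolve_left (Finset.mem_filter.1 hb).2],
      Finset.sum_const, Finset.sum_const, smul_eq_mul, smul_eq_mul] at hsum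
    omega
  have hB0 : B.card ≠ 0 := fun h0 => hna (Char.Ito.comm_of_all_linear fun χ => by
    have : χ ∉ B := by rw [Finset.card_eq_zero.1 h0]; simp
    rw [irr_one_eq_charDegree, show charDegree (χ : V → ℂ) = 1 by simpa [hB] using this, Nat.cast_one])
  obtain ⟨b3, hb3⟩ := Finset.card_eq_one.1 (show B.card = 1 by omega)
  have h1A : one ∈ A := Finset.mem_filter.2 ⟨Finset.mem_univ _, h1⟩
  obtain ⟨b2, hb2⟩ := Finset.card_eq_one.1 (show (A.erase one).card = 1 by
    rw [Finset.card_erase_of_mem h1A]; omega)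
  have hb2m : b2 ∈ A.erase one := by rw [hb2]; exact Finset.mem_singleton_self _
  have hb3m : b3 ∈ B := by rw [hb3]; exact Finset.mem_singleton_self _
  refine ⟨b2, b3, Finset.ne_of_mem_erase hb2m, (Finset.mem_filter.1 (Finset.mem_of_mem_erase hb2m)).2,
    (hdeg b3).resolve_left (Finset.mem_filter.1 hb3m).2, fun b => ?_⟩
  by_cases hb : charDegree (b : V → ℂ) = 1
  · by_cases hb1 : b = one
    · exact Or.inl hb1
    · exact Or.inr (Or.inl (Finset.mem_singleton.1 (hb2 ▸ Finset.mem_erase.2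
        ⟨hb1, Finset.mem_filter.2 ⟨Finset.mem_univ _, hb⟩⟩)))
  · exact Or.inr (Or.inr (Finset.mem_singleton.1
      (hb3 ▸ Finset.mem_filter.2 ⟨Finset.mem_univ _, hb⟩)))

section

variable {G : Type u} [Group G] [Fintype G] {M : Ideal AlgInt} [M.IsPrime] (hM : IsPModular 7 M)
  {P V N : Subgroup G} (K : Conf 7 P V N 3) [Fintype P] [Fintype V] [Fintype N]
  [Fintype (P →* ℂˣ)]

include hM K

/-- The pair of values at an element and its inverse. -/
theorem pair_fixed {b : IrrCharacter V} {X Y : Finset (IrrCharacter G)} {δ : ℤ}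
    {sg : IrrCharacter G → ℤ} (F : Families K b 3 X Y δ sg) (ho : (orbB K b).card = 1) (y : P)
    (hy : y ≠ 1) :
    (∀ χ ∈ X, (χ : G → ℂ) y + (χ : G → ℂ) (y⁻¹ : P) =
      ((2 * charDegree (b : V → ℂ) * sg χ : ℤ) : ℂ)) ∧
    ∀ θ ∈ Y, (θ : G → ℂ) y + (θ : G → ℂ) (y⁻¹ : P) =
      ((charDegree (b : V → ℂ) * δ : ℤ) : ℂ) := by
  classical
  haveI : Fact (Nat.Prime 7) := ⟨by norm_num⟩
  have hy' : (y⁻¹ : P) ≠ 1 := inv_ne_one.2 hy
  constructor
  · intro χ hχ
    have h := (mem_iff_inR K F χ).1 (Or.inl hχ)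
    rw [value_of_fixed hM K h ho y hy, value_of_fixed hM K h ho _ hy',
      Families.phi_X K F hχ hy, Families.phi_X K F hχ hy']
    push_cast; ring
  · intro θ hθ
    have h := (mem_iff_inR K F θ).1 (Or.inr hθ)
    obtain ⟨l0, hl0⟩ := exists_dual_ne_one K
    obtain ⟨x, hx⟩ : ∃ x : N, (x : G) ∉ Subgroup.centralizer (P : Set G) := by
      by_contra hall
      push Not at hall
      have hle : N ≤ Subgroup.centralizer (P : Set G) := fun z hz => hall ⟨z, hz⟩
      have h1 := Subgroup.card_dvd_of_le hle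
      rw [K.D.hcard, card_centralizer K, K.hP] at h1
      have h2 := Nat.le_of_dvd (Nat.mul_pos (by norm_num) Nat.card_pos) h1
      have : 0 < Nat.card V := Nat.card_pos
      omega
    obtain ⟨k, hk⟩ := exists_col K hl0 (m := lT K.D x l0)
      (fun h' => hl0 ((lT_eq_one_iff K.D x l0).1 h'))
    have hlt : ∀ i : (ZMod 7)ˣ, lT K.D x (col l0 i) = col l0 (k * i) := fun i => by
      rw [show col l0 i = l0 ^ (i : ZMod 7).val from rfl, lT_pow K, ← hk, col_pow K]
    have hk1 : k ≠ 1 := fun h' => hx (mem_centralizer_of_fix K hl0 x (by rw [← hk, h', col_one K]))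
    have hk3 : k * k * k = 1 := by
      refine col_injective K hl0 ?_
      have h3 : lT K.D (x * x * x) l0 = col l0 (k * k * k) := by
        rw [lT_mul, lT_mul, ← hk, hlt, hlt, mul_assoc]
      rw [← h3, col_one K]
      refine fix_of_mem_centralizer K _ ?_ l0
      haveI : ((Subgroup.centralizer (P : Set G)).subgroupOf N).Normal := ⟨fun c hc a => by
        rw [Subgroup.mem_subgroupOf, Subgroup.mem_centralizer_iff] at hc ⊢
        intro z hz
        have ha : (a : G)⁻¹ * z * a ∈ P := by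
          have := K.D.hNP _ (inv_mem a.2) z hz
          simpa using this
        have := hc _ ha
        simp only [Subgroup.coe_mul, Subgroup.coe_inv]
        calc z * ((a : G) * c * (a : G)⁻¹) = a * ((a : G)⁻¹ * z * a * c) * (a : G)⁻¹ := by group
          _ = a * (c * ((a : G)⁻¹ * z * a)) * (a : G)⁻¹ := by rw [this]
          _ = a * c * (a : G)⁻¹ * z := by group⟩
      have h4 := Subgroup.pow_index_mem ((Subgroup.centralizer (P : Set G)).subgroupOf N) x
      rw [K.D.he, Subgroup.mem_subgroupOf] at h4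
      simpa [pow_succ] using h4
    have hfix : bT K.D x b = b := Finset.card_le_one.1 ho.le _ ((mem_orbB K).2 ⟨x, rfl⟩) _
      ((mem_orbB K).2 ⟨1, bT_one K b⟩)
    set f : (ZMod 7)ˣ → ℤ := fun i => acoef K θ b (col l0 i) with hf
    have hinv : ∀ i, f (k * i) = f i := fun i => by
      show acoef K θ b _ = acoef K θ b _
      rw [← hlt i]
      conv_lhs => rw [← hfix]
      exact acoef_bT K θ x b _
    have hsum : ∑ i, f i = 3 * δ := by
      rw [← sum_col K hl0 _ (acoef_one K θ b), F.sumY θ hθ]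
      push_cast; ring
    have hneg : ∀ j : (ZMod 7)ˣ, col l0 (-j) = (col l0 j)⁻¹ := fun j => by
      refine (inv_eq_of_mul_eq_one_right (G := (P →* ℂˣ)) ?_).symm
      show l0 ^ (j : ZMod 7).val * l0 ^ ((-j : (ZMod 7)ˣ) : ZMod 7).val = 1
      have h7 : 7 ∣ (j : ZMod 7).val + ((-j : (ZMod 7)ˣ) : ZMod 7).val := by
        rw [← ZMod.natCast_eq_zero_iff, Nat.cast_add, ZMod.natCast_zmod_val, ZMod.natCast_zmod_val,
          Units.val_neg, add_neg_cancel]
      obtain ⟨q, hq⟩ := h7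
      refine MonoidHom.ext fun z => ?_
      rw [MonoidHom.mul_apply, MonoidHom.pow_apply, MonoidHom.pow_apply, MonoidHom.one_apply, ← pow_add,
        hq, pow_mul, show l0 z ^ 7 = 1 from Units.ext (by simpa using linear_pow_p K l0 z), one_pow]
    have hl : ∀ l : P →* ℂˣ, ((acoef K θ b l + acoef K θ b l⁻¹ : ℤ) : ℂ) =
        if l = 1 then 0 else (δ : ℂ) := by
      intro l
      split_ifs with h1
      · subst h1
        rw [show (1 : P →* ℂˣ)⁻¹ = 1 from MonoidHom.ext fun z => inv_one, acoef_one]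
        simp
      · obtain ⟨j, rfl⟩ := exists_col K hl0 h1
        rw [← hneg, show acoef K θ b (col l0 j) + acoef K θ b (col l0 (-j)) = δ from
          half hk3 hk1 hinv hsum j]
    have hphi : phi (θ : G → ℂ) b y + phi (θ : G → ℂ) b y⁻¹ = (δ : ℂ) := by
      rw [phi_eq_acoef K θ b hy, phi_eq_acoef K θ b hy']
      have hre : ∑ l : P →* ℂˣ, (acoef K θ b l : ℂ) * ((l y⁻¹ : ℂˣ) : ℂ) =
          ∑ l : P →* ℂˣ, (acoef K θ b l⁻¹ : ℂ) * ((l y : ℂˣ) : ℂ) :=
        Fintype.sum_equiv (Equiv.inv (P →* ℂˣ)) _ _ fun l => by simp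
      rw [hre, ← neg_add, ← Finset.sum_add_distrib]
      have h0 : ∑ l : P →* ℂˣ, ((l y : ℂˣ) : ℂ) = 0 := by rw [sum_linear K.D, if_neg hy]
      rw [Finset.sum_congr rfl fun (l : P →* ℂˣ) _ => show _ = (δ : ℂ) * ((l y : ℂˣ) : ℂ) -
          (if l = 1 then (δ : ℂ) else 0) by
        rw [← add_mul, ← Int.cast_add, hl l]
        split_ifs with h1
        · subst h1; simp
        · ring,
        Finset.sum_sub_distrib, ← Finset.mul_sum, h0, Finset.sum_ite_eq' Finset.univ,
        if_pos (Finset.mem_univ _)]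
      ring
    rw [value_of_fixed hM K h ho y hy, value_of_fixed hM K h ho _ hy', ← add_mul, hphi]
    push_cast; ring

end

variable {G : Type u} [Group G] [Fintype G]

/-- The data at 7 from the local data. -/
theorem seven_of_locals (hG : Nat.card G = 244823040)
    (c7 : ∀ x : G, orderOf x = 7 → Nat.card (Subgroup.centralizer ({x} : Set G)) = 42)
    (n7 : ∀ P : Sylow 7 G, Nat.card (Subgroup.normalizer ((P : Subgroup G) : Set G)) = 126)
    (hna : ∀ x : G, orderOf x = 7 → ∃ a ∈ Subgroup.centralizer ({x} : Set G),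
      ∃ b ∈ Subgroup.centralizer ({x} : Set G), ¬ Commute a b) : Seven G := by
  classical
  haveI : Fact (Nat.Prime 7) := ⟨by norm_num⟩
  obtain ⟨P⟩ : Nonempty (Sylow 7 G) := inferInstance
  have hP : Nat.card P = 7 := by
    rw [Small.sylow_card (k := 1) (m := 34974720) (by rw [hG]; norm_num) (by norm_num) P, pow_one]
  obtain ⟨V, e, K, -⟩ := exists_conf (by norm_num) P hP
  haveI : Fintype ((P : Subgroup G) →* ℂˣ) := Fintype.ofFinite _
  haveI : Fintype (P : Subgroup G) := Fintype.ofFinite _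
  haveI : Fintype V := Fintype.ofFinite _
  haveI : Fintype (Subgroup.normalizer ((P : Subgroup G) : Set G)) := Fintype.ofFinite _
  obtain ⟨y₀, hy₀⟩ := exists_ne_one_P K
  have hy1 : (y₀ : G) ≠ 1 := fun h => hy₀ (Subtype.ext h)
  have ho := DefOne.orderOf_P K y₀.2 hy1
  have hV : Nat.card V = 6 := by
    have h := M22Uniq.cent_card K ho
    rw [c7 _ ho] at h
    omega
  obtain rfl : e = 3 := by
    have h := n7 P
    rw [K.D.hcard, K.hP, hV] at h
    omega
  obtain ⟨M, hM⟩ := exists_isPModular_witness 7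
  haveI := IsPModular.isPrime hM
  have hnV : ¬ IsMulCommutative V := fun hc => by
    obtain ⟨a, ha, b, hb, hab⟩ := hna _ ho
    rw [← centralizer_P K y₀.2 hy1] at ha hb
    obtain ⟨a₁, ha₁, v, hv, rfl⟩ := (K.hC a).1 ha
    obtain ⟨b₁, hb₁, w, hw, rfl⟩ := (K.hC b).1 hb
    have hvw : Commute v w := congrArg Subtype.val (hc.is_comm.comm (⟨v, hv⟩ : V) ⟨w, hw⟩)
    exact hab ((Commute.mul_left (Commute.mul_right (K.D.comm _ ha₁ _ hb₁)
      (K.D.pv _ ha₁ _ hw)) (Commute.mul_right (K.D.pv _ hb₁ _ hv).symm hvw)))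
  obtain ⟨b2, b3, hb2, hd2, hd3, hall⟩ := chars_six hV hnV (one := trivB V) (by
    have h := irr_one_eq_charDegree (trivB V)
    rw [show (trivB V : V → ℂ) 1 = ((1 : ℕ) : ℂ) by simp [trivB]] at h
    exact_mod_cast h.symm)
  have hd1 : charDegree (trivB V : V → ℂ) = 1 := by
    have h := irr_one_eq_charDegree (trivB V)
    rw [show (trivB V : V → ℂ) 1 = ((1 : ℕ) : ℂ) by simp [trivB]] at h
    exact_mod_cast h.symm
  have o1 := card_orbB_triv (G := G) K
  have o3 : (orbB K b3).card = 1 := card_orbB_one K fun b' hb' => by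
    rcases hall b' with r | r | r <;> subst r
    · omega
    · omega
    · rfl
  have o2 : (orbB K b2).card = 1 := by
    refine Finset.card_eq_one.2 ⟨b2, Finset.eq_singleton_iff_unique_mem.2
      ⟨(mem_orbB K).2 ⟨1, bT_one K b2⟩, fun b' hb' => ?_⟩⟩
    obtain ⟨w, rfl⟩ := (mem_orbB K).1 hb'
    rcases hall (bT K.D w b2) with r | r | r
    · exfalso
      refine hb2 ?_
      rw [← bT_one K b2, ← mul_inv_cancel w, bT_mul K, r]
      exact Subtype.ext (funext fun _ => rfl)
    · exact r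
    · exfalso
      have h := bT_apply_one K w b2
      rw [r, irr_one_eq_charDegree, irr_one_eq_charDegree, hd2, hd3] at h
      norm_num at h
  obtain ⟨X₁, Y₁, δ₁, s₁, F₁, A₁, sX₁, sY₁⟩ := exists_fam hM K (trivB V) (o := 1) (eb := 3) (m := 2)
    (a := 1) (c := 4) o1 hd1 rfl rfl rfl rfl (by norm_num) rfl (by norm_num) (by norm_num)
  obtain ⟨X₂, Y₂, δ₂, s₂, F₂, A₂, sX₂, sY₂⟩ := exists_fam hM K b2 (o := 1) (eb := 3) (m := 2)
    (a := 1) (c := 4) o2 hd2 rfl rfl rfl rfl (by norm_num) rfl (by norm_num) (by norm_num)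
  obtain ⟨X₃, Y₃, δ₃, s₃, F₃, A₃, sX₃, sY₃⟩ := exists_fam hM K b3 (o := 1) (eb := 3) (m := 2)
    (a := 2) (c := 1) o3 hd3 rfl rfl rfl rfl (by norm_num) rfl (by norm_num) (by norm_num)
  have hpair : ∀ {b : IrrCharacter V} {X Y : Finset (IrrCharacter G)} {δ : ℤ}
      {sg : IrrCharacter G → ℤ} {a c : ℕ} {d : ℕ}, Families K b 3 X Y δ sg → (orbB K b).card = 1 →
      charDegree (b : V → ℂ) = d → (∀ χ ∈ X, rsgn 7 a (dg χ) = sg χ) →
      (∀ θ ∈ Y, rsgn 7 c (dg θ) = δ) → PairVal a c (d : ℤ) X Y := by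
    intro b X Y δ sg a c d F hor hd hX hY z hz
    obtain ⟨w, hw, hw1, hzw⟩ := M22Uniq.exists_conj_mem P hP hz
    have hval : ∀ χ : IrrCharacter G, (χ : G → ℂ) z = (χ : G → ℂ) w ∧
        (χ : G → ℂ) z⁻¹ = (χ : G → ℂ) w⁻¹ := fun χ => by
      obtain ⟨c, hc⟩ := isConj_iff.1 hzw
      exact ⟨M11Local.class_eq (IsIrrCharacter.isCharacter χ.2) hzw,
        M11Local.class_eq (IsIrrCharacter.isCharacter χ.2)
          (isConj_iff.2 ⟨c, by rw [← conj_inv, hc]⟩)⟩
    obtain ⟨h1, h2⟩ := pair_fixed hM K F hor ⟨w, hw⟩ (fun e => hw1 (congrArg Subtype.val e))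
    rw [hd] at h1 h2
    constructor
    · intro χ hχ
      rw [(hval χ).1, (hval χ).2, hX χ hχ]
      exact h1 χ hχ
    · intro θ hθ
      rw [(hval θ).1, (hval θ).2, hY θ hθ]
      exact h2 θ hθ
  have hdisj : ∀ {b b' : IrrCharacter V} {χ : IrrCharacter G}, (orbB K b).card = 1 → b ≠ b' →
      InR K χ b → InR K χ b' → False := fun hor hne h h' =>
    hne (Finset.card_le_one.1 hor.le _ ((mem_orbB K).2 ⟨1, bT_one K _⟩) _ (orb_of_inR hM K h h'))
  have h12 : trivB V ≠ b2 := hb2.symm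
  have h13 : trivB V ≠ b3 := fun h => by rw [← h, hd1] at hd3; omega
  have h23 : b2 ≠ b3 := fun h => by rw [← h, hd2] at hd3; omega
  refine ⟨c7, fun χ hχ z hz => ?_, X₁, Y₁, X₂, Y₂, X₃, Y₃, A₁, A₂, A₃, ?_,
    hpair F₁ o1 hd1 sX₁ sY₁, hpair F₂ o2 hd2 sX₂ sY₂, hpair F₃ o3 hd3 sX₃ sY₃, ?_⟩
  · obtain ⟨w, hw, hw1, hzw⟩ := M22Uniq.exists_conj_mem P hP hz
    rw [M11Local.class_eq (IsIrrCharacter.isCharacter χ.2) hzw]
    exact M23Uniq.value_zero_of_dvd hM K hχ hw hw1
  · refine (principal_mem hM K F₁).resolve_right fun h => ?_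
    have := A₁.cardY
    rw [h] at this
    simp at this
  · refine union_eq hM K ?_ fun χ => ?_
    · refine Multiset.nodup_add.2 ⟨Multiset.nodup_add.2 ⟨nodup_union K F₁, nodup_union K F₂, ?_⟩,
        nodup_union K F₃, ?_⟩
      · exact Multiset.disjoint_left.2 fun h h' =>
          hdisj o1 h12 ((mem_union_iff K F₁ _).1 h) ((mem_union_iff K F₂ _).1 h')
      · refine Multiset.disjoint_left.2 fun h h' => ?_
        rcases Multiset.mem_add.1 h with h | h
        · exact hdisj o1 h13 ((mem_union_iff K F₁ _).1 h) ((mem_union_iff K F₃ _).1 h')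
        · exact hdisj o2 h23 ((mem_union_iff K F₂ _).1 h) ((mem_union_iff K F₃ _).1 h')
    · rw [Multiset.mem_add, Multiset.mem_add (s := X₁.val + Y₁.val), mem_union_iff K F₁,
        mem_union_iff K F₂, mem_union_iff K F₃]
      constructor
      · rintro ((h | h) | h) <;> exact ⟨_, h⟩
      · rintro ⟨b, hb⟩
        rcases hall b with r | r | r <;> subst r
        · exact Or.inl (Or.inl hb)
        · exact Or.inl (Or.inr hb)
        · exact Or.inr hb

end Cfsg.Agent.M24Uniq
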