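import Cfsg.Agent.Lib.M24Uniq.Families
import Cfsg.Agent.Lib.DefOne.General
import Cfsg.Agent.Lib.DefOne.Count
import Cfsg.Agent.Lib.M22Uniq.Setup
import Cfsg.Agent.Lib.Char.ItoPSolvable
import Cfsg.Agent.Lib.M12Uniq.SameCounts

/-!
The families of the characters of the complement: the general statements used at 7 and at 5.
-/

set_option linter.unusedSectionVars false
set_option linter.style.haveILetI false

namespace Cfsg.Agent.M24Uniq

open Cfsg Cfsg.Agent.Char Cfsg.Agent.Blocks Cfsg.Agent.CCSylow Cfsg.Agent.DefOne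
open Cfsg.Agent.M23Uniq (dg)

open scoped ComplexConjugate

universe u

theorem rsgn_eq {p a d : ℕ} {s : ℤ} (hs : s = 1 ∨ s = -1) (ha0 : 0 < a) (hap : a < p)
    (hodd : p % 2 = 1) (h : (d : ℤ) ≡ s * a [ZMOD p]) :
    rsgn p a d = s ∧ (d % p = a ∨ d % p = p - a) := by
  rcases hs with rfl | rfl
  · rw [one_mul] at h
    have h' := Int.natCast_modEq_iff.1 h
    rw [Nat.ModEq, Nat.mod_eq_of_lt hap] at h'
    exact ⟨by rw [rsgn, if_pos h'], Or.inl h'⟩
  · have h1 : (d : ℤ) ≡ ((p - a : ℕ) : ℤ) [ZMOD p] := by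
      refine h.trans ?_
      rw [Int.modEq_iff_dvd, Nat.cast_sub hap.le]
      exact ⟨1, by ring⟩
    have h' := Int.natCast_modEq_iff.1 h1
    rw [Nat.ModEq, Nat.mod_eq_of_lt (Nat.sub_lt (by omega) ha0)] at h'
    exact ⟨by rw [rsgn, if_neg (by omega)], Or.inr h'⟩

variable {G : Type u} [Group G] [Fintype G] {p : ℕ} {M : Ideal AlgInt} [M.IsPrime]
  (hM : IsPModular p M) {P V N : Subgroup G} {e : ℕ} (K : Conf p P V N e)
  [Fintype P] [Fintype V] [Fintype N] [Fintype (P →* ℂˣ)]

include hM K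

/-- Two characters of the complement with a common row are conjugate. -/
theorem orb_of_inR {χ : IrrCharacter G} {b b' : IrrCharacter V} (h : InR K χ b) (h' : InR K χ b') :
    b' ∈ orbB K b :=
  (mem_orbB K).2 (exists_conj_of_block K hM h h' rfl)

/-- The families of a character of the complement in the form of the interface. -/
theorem exists_fam (b : IrrCharacter V) {o d eb m a c : ℕ} (ho : (orbB K b).card = o)
    (hd : charDegree (b : V → ℂ) = d) (heb : o * eb = e) (hm : m * eb = p - 1) (hodd : p % 2 = 1)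
    (ha : (o * d) % p = a) (ha0 : 0 < a) (hc : (e * d + c) % p = 0) (hc0 : 0 < c) (hcp : c < p) :
    ∃ (X Y : Finset (IrrCharacter G)) (δ : ℤ) (sg : IrrCharacter G → ℤ),
      Families K b eb X Y δ sg ∧ Fam p eb m a c X Y ∧
      (∀ χ ∈ X, rsgn p a (dg χ) = sg χ) ∧ ∀ θ ∈ Y, rsgn p c (dg θ) = δ := by
  classical
  obtain ⟨eb', X, Y, δ, sg, F⟩ := exists_families K hM b
  have hp1 : 1 < p := K.hp.one_lt
  obtain rfl : eb' = eb := by
    have h := card_orbB K b
    rw [F.card_stab, K.D.hcard, K.hP, ← mul_assoc, ho] at h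
    have h' : o * eb' = o * eb := by
      rw [heb]; exact Nat.eq_of_mul_eq_mul_right (Nat.mul_pos K.hp.pos Nat.card_pos) h
    have ho0 : 0 < o := ho ▸ Finset.card_pos.2 ⟨b, (mem_orbB K).2 ⟨1, bT_one K b⟩⟩
    exact Nat.eq_of_mul_eq_mul_left ho0 h'
  have hmem := mem_iff_inR K F
  have hX : ∀ χ ∈ X, rsgn p a (dg χ) = sg χ ∧ (dg χ % p = a ∨ dg χ % p = p - a) := by
    intro χ hχ
    refine rsgn_eq (F.signX χ hχ) ha0 (ha ▸ Nat.mod_lt _ K.hp.pos) hodd ?_
    have h := degree_congr' K hM ((hmem χ).1 (Or.inl hχ))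
    rw [Families.sum_X K F hχ, ho, hd] at h
    refine h.trans ?_
    rw [← ha, Int.modEq_iff_dvd]
    refine ⟨sg χ * ((o * d : ℕ) : ℤ) - sg χ * ((o * d / p : ℕ) : ℤ), ?_⟩
    have hdiv : ((o * d % p : ℕ) : ℤ) = (o * d : ℕ) - (p : ℤ) * (o * d / p : ℕ) := by
      have := Nat.mod_add_div (o * d) p
      have h2 : ((o * d % p : ℕ) : ℤ) + (p : ℤ) * (o * d / p : ℕ) = (o * d : ℕ) := by exact_mod_cast this
      linarith
    rw [hdiv]
    push_cast
    ring
  have hY : ∀ θ ∈ Y, rsgn p c (dg θ) = δ ∧ (dg θ % p = c ∨ dg θ % p = p - c) := by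
    intro θ hθ
    refine rsgn_eq F.sign hc0 hcp hodd ?_
    have h := degree_congr' K hM ((hmem θ).1 (Or.inr hθ))
    rw [F.sumY θ hθ, ho, hd] at h
    refine h.trans ?_
    obtain ⟨q, hq⟩ := Nat.dvd_of_mod_eq_zero hc
    have hq' : (o : ℤ) * eb' * d + c = p * q := by
      rw [← heb] at hq
      exact_mod_cast hq
    rw [Int.modEq_iff_dvd]
    exact ⟨δ * q, by linear_combination δ * hq'⟩
  refine ⟨X, Y, δ, sg, F, ⟨F.cardX, Nat.eq_of_mul_eq_mul_right (Families.eb_pos K F)
    (F.cardY.trans hm.symm), fun χ h => (hX χ h).2, fun θ h => (hY θ h).2, fun θ hθ θ' hθ' => ?_,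
    fun θ hθ g hg => ?_⟩, fun χ h => (hX χ h).1, fun θ h => (hY θ h).1⟩
  · have h1p : ¬ p ∣ orderOf (1 : G) := by simpa using K.hp.ne_one
    have h := Families.agree K F hθ hθ' h1p
    rw [irr_one_eq_charDegree, irr_one_eq_charDegree] at h
    exact_mod_cast h
  · rw [(hY θ hθ).1, Finset.sum_congr rfl fun χ h => by rw [(hX χ h).1]]
    exact Families.relation K F hθ hg

/-- The values on `P` at a fixed character of the complement. -/
theorem value_of_fixed {χ : IrrCharacter G} {b : IrrCharacter V} (h : InR K χ b)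
    (ho : (orbB K b).card = 1) (y : P) (hy : y ≠ 1) :
    (χ : G → ℂ) y = phi (χ : G → ℂ) b y * (charDegree (b : V → ℂ) : ℂ) := by
  classical
  have hb : b ∈ orbB K b := (mem_orbB K).2 ⟨1, bT_one K b⟩
  have h1 := expansion_phi K χ y 1
  rw [OneMemClass.coe_one, mul_one] at h1
  rw [h1, Finset.sum_eq_single b, irr_one_eq_charDegree]
  · intro b' _ hne
    have hn : ¬ InR K χ b' := fun h' => hne (Finset.card_le_one.1 ho.le _ (orb_of_inR hM K h h') _ hb)
    rw [phi_eq_zero_of_not_inR K hn hy, zero_mul]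
  · exact fun h' => absurd (Finset.mem_univ b) h'

omit hM in
/-- The members of the families of one character. -/
theorem mem_union_iff {b : IrrCharacter V} {eb : ℕ} {X Y : Finset (IrrCharacter G)} {δ : ℤ}
    {sg : IrrCharacter G → ℤ} (F : Families K b eb X Y δ sg) (χ : IrrCharacter G) :
    χ ∈ X.val + Y.val ↔ InR K χ b := by
  rw [Multiset.mem_add]
  exact mem_iff_inR K F χ

omit hM in
theorem nodup_union {b : IrrCharacter V} {eb : ℕ} {X Y : Finset (IrrCharacter G)} {δ : ℤ}
    {sg : IrrCharacter G → ℤ} (F : Families K b eb X Y δ sg) : (X.val + Y.val).Nodup :=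
  Multiset.nodup_add.2 ⟨X.nodup, Y.nodup, Finset.disjoint_val.2 F.disj⟩

/-- The families of all orbits make up the characters of degree prime to `p`. -/
theorem union_eq {s : Multiset (IrrCharacter G)} (hs : s.Nodup)
    (hmem : ∀ χ, χ ∈ s ↔ ∃ b : IrrCharacter V, InR K χ b) :
    s = ((Finset.univ : Finset (IrrCharacter G)).filter fun χ => ¬ p ∣ dg χ).val := by
  refine (Multiset.Nodup.ext hs (Finset.nodup _)).2 fun χ => ?_
  rw [hmem, Finset.mem_val, Finset.mem_filter]
  exact ⟨fun ⟨b, hb⟩ => ⟨Finset.mem_univ _, not_dvd_of_inR K hM hb⟩, fun h => exists_inR K hM h.2⟩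

omit hM in
theorem card_orbB_one {b : IrrCharacter V}
    (huniq : ∀ b' : IrrCharacter V, charDegree (b' : V → ℂ) = charDegree (b : V → ℂ) → b' = b) :
    (orbB K b).card = 1 := by
  refine Finset.card_eq_one.2 ⟨b, Finset.eq_singleton_iff_unique_mem.2
    ⟨(mem_orbB K).2 ⟨1, bT_one K b⟩, fun b' hb' => ?_⟩⟩
  obtain ⟨w, rfl⟩ := (mem_orbB K).1 hb'
  refine huniq _ ?_
  have h := bT_apply_one K w b
  rw [irr_one_eq_charDegree, irr_one_eq_charDegree] at h
  exact_mod_cast h

omit hM in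
theorem card_orbB_triv : (orbB K (trivB V)).card = 1 := by
  refine Finset.card_eq_one.2 ⟨trivB V, Finset.eq_singleton_iff_unique_mem.2
    ⟨(mem_orbB K).2 ⟨1, bT_one K _⟩, fun b' hb' => ?_⟩⟩
  obtain ⟨w, rfl⟩ := (mem_orbB K).1 hb'
  exact Subtype.ext (funext fun _ => rfl)

/-- The principal character is attached to the trivial character. -/
theorem principal_mem {eb : ℕ} {X Y : Finset (IrrCharacter G)} {δ : ℤ} {sg : IrrCharacter G → ℤ}
    (F : Families K (trivB V) eb X Y δ sg) :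
    principal G ∈ X ∨ Y = {principal G} := by
  classical
  have h : principal G ∈ X ∨ principal G ∈ Y := by
    have := Cfsg.Agent.Blocks.principal_mem_principalBlock (M := M) (G := G)
    rw [principal_eq K hM F] at this
    exact this
  refine h.imp id fun h => Finset.eq_singleton_iff_unique_mem.2 ⟨h, fun θ hθ => ?_⟩
  obtain ⟨σ, -, rfl⟩ := F.transY _ h θ hθ
  exact Subtype.ext (funext fun g => map_one σ)

omit hM in
/-- The elements of the centralizer of order prime to `p` lie in the complement. -/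
theorem card_order_eq {x : G} (hx : x ∈ P) (hx1 : x ≠ 1) {q : ℕ} (hq : ¬ p ∣ q) :
    Nat.card {g : G // g ∈ Subgroup.centralizer ({x} : Set G) ∧ orderOf g = q} =
      Nat.card {v : V // orderOf v = q} := by
  rw [← centralizer_P K hx hx1]
  exact Nat.card_congr
    { toFun := fun g => ⟨⟨g.1, mem_V_of_regular K g.2.1 (g.2.2.symm ▸ hq)⟩,
        by rw [Subgroup.orderOf_mk]; exact g.2.2⟩
      invFun := fun v => ⟨v.1.1, V_le_centralizer K v.1.2, by rw [Subgroup.orderOf_coe]; exact v.2⟩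
      left_inv := fun g => rfl
      right_inv := fun v => rfl }

end Cfsg.Agent.M24Uniq
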