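import Cfsg.Agent.Lib.M24Uniq.TwentyThree
import Cfsg.Agent.Lib.M23Uniq.Action
import Cfsg.Agent.Lib.M12Uniq.Forms
import Cfsg.Agent.Lib.M12Uniq.CharEleven
import Cfsg.Agent.Lib.Perm.CharPerm
import Mathlib.GroupTheory.GroupAction.MultipleTransitivity

/-!
The action on 24 points of a simple group of order 244823040 and its multiple transitivity.
-/

set_option linter.unusedSectionVars false
set_option linter.style.haveILetI false

namespace Cfsg.Agent.M24Uniq

open Cfsg Cfsg.Agent.Char Cfsg.Agent.Blocks Cfsg.Agent.CharPerm MulAction Module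
open Cfsg.Agent.M23Uniq (dg dg_principal classInner_irr_one)

open scoped ComplexConjugate

universe u

variable {G : Type u} [Group G] [Fintype G]

/-- The averages of the powers of the character of degree 23. -/
theorem Chi23.moments {χ a b : IrrCharacter G} (E : Chi23 χ a b) :
    ∑ g : G, (χ : G → ℂ) g = 0 ∧
    ∑ g : G, (χ : G → ℂ) g * (χ : G → ℂ) g = (Nat.card G : ℂ) ∧
    ∑ g : G, (χ : G → ℂ) g * (χ : G → ℂ) g * (χ : G → ℂ) g = (Nat.card G : ℂ) ∧
    ∑ g : G, (χ : G → ℂ) g * (χ : G → ℂ) g * ((χ : G → ℂ) g * (χ : G → ℂ) g) = 4 * (Nat.card G : ℂ) := by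
  classical
  obtain ⟨n1, n2, n3, n4, n5, n6⟩ := E.ne
  have hG : (Nat.card G : ℂ) ≠ 0 := Nat.cast_ne_zero.2 Nat.card_pos.ne'
  have conv : ∀ {f : G → ℂ} {φ : G → ℂ} {c : ℂ}, classInner f φ = c → (∀ g, conj (φ g) = φ g) →
      ∑ g, f g * φ g = c * (Nat.card G : ℂ) := by
    intro f φ c h hr
    rw [← h, classInner]
    simp only [hr]
    field_simp
  have h1 := conv (classInner_irr_one n1) fun _ => map_one _
  have h2 := conv (classInner_self_irr χ.2) E.real
  have h3 : classInner (fun g => (χ : G → ℂ) g * (χ : G → ℂ) g) (χ : G → ℂ) = 1 := by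
    rw [M12Uniq.inner_four E.sq_eq]
    simp [n1.symm, n4.symm, n5.symm]
  have h4 : classInner (fun g => (χ : G → ℂ) g * (χ : G → ℂ) g)
      (fun g => (χ : G → ℂ) g * (χ : G → ℂ) g) = 4 := by
    rw [M12Uniq.inner_four_right E.sq_eq, M12Uniq.inner_four E.sq_eq, M12Uniq.inner_four E.sq_eq,
      M12Uniq.inner_four E.sq_eq, M12Uniq.inner_four E.sq_eq]
    simp [n1, n1.symm, n2, n2.symm, n3, n3.symm, n4, n4.symm, n5, n5.symm, n6, n6.symm]
    norm_num
  refine ⟨by simpa using h1, by simpa using h2, ?_, ?_⟩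
  · rw [conv h3 E.real, one_mul]
  · exact conv h4 fun g => by rw [map_mul, E.real]

/-- An action on 24 points. -/
theorem exists_action24 (L : Locals G) {χ a b : IrrCharacter G} (E : Chi23 χ a b) :
    ∃ (X : Type) (_ : Fintype X) (φ : G →* Equiv.Perm X), Fintype.card X = 24 ∧
      Function.Injective φ ∧ ∀ i j, ∃ g, φ g i = j := by
  classical
  haveI := L.simple
  obtain ⟨n, ρ, hρ, hρχ⟩ := χ.2
  haveI := hρ
  have hn : n = 23 := by
    have h := congrFun hρχ 1
    rw [Representation.char_one, finrank_pi, Fintype.card_fin, irr_one_eq_charDegree,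
      show charDegree (χ : G → ℂ) = 23 from E.deg] at h
    exact_mod_cast h
  subst hn
  obtain ⟨m1, m2, m3, m4⟩ := E.moments
  have h3 : classInner (fun g => ρ.character g * ρ.character g) ρ.character = 1 := by
    rw [hρχ, classInner]
    simp only [E.real]
    rw [m3, inv_mul_cancel₀ (Nat.cast_ne_zero.2 Nat.card_pos.ne')]
  obtain ⟨D, hD⟩ := M12Uniq.exists_algData ρ (by rw [hρχ]; exact E.real)
    (by decide) (by norm_num) h3 (by
      rw [hρχ, show (fun g => ((χ : G → ℂ) g * (χ : G → ℂ) g - (χ : G → ℂ) (g * g)) / 2) = (b : G → ℂ) from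
        funext E.extSq]
      exact b.2)
  have hfaith : ∀ g, D.rho g = 1 → g = 1 := by
    rw [hD]
    let f : G →* Module.End ℂ (Fin 23 → ℂ) := ρ
    rcases IsSimpleGroup.eq_bot_or_eq_top_of_normal f.ker inferInstance with h | h
    · intro g hg
      have : g ∈ f.ker := hg
      rwa [h, Subgroup.mem_bot] at this
    · exfalso
      have h1 : ∀ g, ρ g = 1 := fun g => by
        have : g ∈ f.ker := by rw [h]; trivial
        exact this
      have h2 := D.no_fixed (Pi.single 0 1) (fun g => by rw [hD, h1]; rfl)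
      simpa using congrFun h2 0
  obtain ⟨X, hXf, φ, hX, hinj, htr⟩ := D.exists_action hfaith
  rw [finrank_pi, Fintype.card_fin] at hX
  exact ⟨X, hXf, φ, hX, hinj, htr⟩

variable {X : Type} [Fintype X] [MulAction G X] [IsPretransitive G X]

/-- The permutation character of an action on 24 points. -/
theorem permChar_eq (L : Locals G) (S : Small G) {χ a b : IrrCharacter G} (E : Chi23 χ a b) (hX : Fintype.card X = 24)
    (g : G) : (Nat.card (fixedBy X g) : ℂ) = 1 + (χ : G → ℂ) g := by
  classical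
  haveI : Nonempty X := Fintype.card_pos_iff.1 (by omega)
  obtain ⟨m, hm⟩ := IsCharacter.exists_decomp (isCharacter_permChar (G := G) (Ω := X))
  have hm1 : m (principal G) = 1 := by
    have h := classInner_combination (fun ψ => (m ψ : ℂ)) (principal G)
    rw [← hm] at h
    exact_mod_cast (h.symm.trans (classInner_permChar_one (G := G) (Ω := X)))
  have hd : (24 : ℕ) = ∑ ψ : IrrCharacter G, m ψ * dg ψ := by
    have h := congrFun hm 1
    simp only [permChar, Finset.sum_apply, Pi.smul_apply, smul_eq_mul, irr_one_eq_charDegree,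
      fixedBy_one_eq_univ, Nat.card_univ, Nat.card_eq_fintype_card (α := X), hX] at h
    exact_mod_cast h
  rw [← Finset.add_sum_erase _ _ (Finset.mem_univ (principal G)), hm1, dg_principal] at hd
  have hlist : ∀ d ∈ smallList, d ≠ 1 → d ≤ 23 → d = 23 := by decide
  have hother : ∀ ψ, ψ ≠ principal G → ψ ≠ χ → m ψ = 0 := by
    intro ψ h1 h2
    by_contra h0
    have hle := Finset.single_le_sum (f := fun φ : IrrCharacter G => m φ * dg φ)
      (fun _ _ => Nat.zero_le _) (Finset.mem_erase.2 ⟨h1, Finset.mem_univ ψ⟩)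
    have h' : dg ψ ≤ 23 := le_trans (Nat.le_mul_of_pos_left _ (Nat.pos_of_ne_zero h0)) (by omega)
    exact h2 (S.unique23 _ _ (hlist _ (S.list ψ (h'.trans (by norm_num))) (fun e => h1 (L.eq_principal e)) h') E.deg)
  have hne := E.ne.1
  have hmχ : m χ = 1 := by
    rw [Finset.sum_eq_single χ (fun ψ hψ hne' => by
      rw [hother ψ (Finset.ne_of_mem_erase hψ) hne', zero_mul])
      (fun h => absurd (Finset.mem_erase.2 ⟨hne, Finset.mem_univ χ⟩) h), E.deg] at hd
    omega
  have h := congrFun hm g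
  rw [Finset.sum_apply, ← Finset.sum_subset (Finset.subset_univ {principal G, χ}) (fun ψ _ hψ => by
      simp only [Finset.mem_insert, Finset.mem_singleton, not_or] at hψ
      rw [Pi.smul_apply, hother ψ hψ.1 hψ.2, Nat.cast_zero, zero_smul]), Finset.sum_pair hne.symm,
    Pi.smul_apply, Pi.smul_apply, hm1, hmχ, Nat.cast_one, one_smul, one_smul] at h
  exact h

/-- The action is fourfold transitive. -/
theorem four_transitive (L : Locals G) (S : Small G) {χ a b : IrrCharacter G} (E : Chi23 χ a b)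
    (hX : Fintype.card X = 24) : IsMultiplyPretransitive G X 4 := by
  classical
  obtain ⟨m1, m2, m3, m4⟩ := E.moments
  have hfix : ∀ g : G, Fintype.card (fixedBy (Fin 4 ↪ X) g) = (Nat.card (fixedBy X g)).descFactorial 4 := by
    intro g
    rw [Nat.card_eq_fintype_card, show (Fintype.card (fixedBy X g)).descFactorial 4 =
      (Fintype.card (fixedBy X g)).descFactorial (Fintype.card (Fin 4)) by rw [Fintype.card_fin],
      ← Fintype.card_embedding_eq]
    exact Fintype.card_congr
      { toFun := fun f => ⟨fun i => ⟨f.1 i, congrArg (fun F : Fin 4 ↪ X => F i) f.2⟩,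
          fun i j h => f.1.injective (congrArg Subtype.val h)⟩
        invFun := fun f => ⟨⟨fun i => (f i : X), fun i j h => f.injective (Subtype.ext h)⟩,
          Function.Embedding.ext fun i => (f i).2⟩
        left_inv := fun f => rfl
        right_inv := fun f => rfl }
  have h := sum_card_fixedBy_eq_card_orbits_mul_card_group G (Fin 4 ↪ X)
  rw [Finset.sum_congr rfl fun g _ => hfix g] at h
  have hdesc : ∀ n : ℕ, ((n.descFactorial 4 : ℕ) : ℂ) = n * (n - 1) * (n - 2) * (n - 3) := by
    intro n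
    match n with
    | 0 => simp [Nat.descFactorial]
    | 1 => simp [Nat.descFactorial]
    | 2 => simp [Nat.descFactorial]
    | k + 3 => simp [Nat.descFactorial]; ring
  have hs : ∑ g : G, (((Nat.card (fixedBy X g)).descFactorial 4 : ℕ) : ℂ) = (Nat.card G : ℂ) := by
    simp only [hdesc, permChar_eq L S E hX]
    rw [Finset.sum_congr rfl fun g _ => show (1 + (χ : G → ℂ) g) * (1 + (χ : G → ℂ) g - 1) *
        (1 + (χ : G → ℂ) g - 2) * (1 + (χ : G → ℂ) g - 3) =
      (χ : G → ℂ) g * (χ : G → ℂ) g * ((χ : G → ℂ) g * (χ : G → ℂ) g) -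
        2 * ((χ : G → ℂ) g * (χ : G → ℂ) g * (χ : G → ℂ) g) -
        (χ : G → ℂ) g * (χ : G → ℂ) g + 2 * (χ : G → ℂ) g by ring]
    rw [Finset.sum_add_distrib, Finset.sum_sub_distrib, Finset.sum_sub_distrib, ← Finset.mul_sum,
      ← Finset.mul_sum, m1, m2, m3, m4]
    ring
  rw [← Nat.cast_sum, h, Nat.cast_inj, Nat.card_eq_fintype_card] at hs
  have h1 : Fintype.card (Quotient (orbitRel G (Fin 4 ↪ X))) = 1 :=
    Nat.eq_of_mul_eq_mul_right Fintype.card_pos (hs.trans (one_mul _).symm)
  haveI : Subsingleton (Quotient (orbitRel G (Fin 4 ↪ X))) :=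
    Fintype.card_le_one_iff_subsingleton.1 h1.le
  exact ⟨fun x y => by
    obtain ⟨g, hg⟩ := Quotient.exact (Subsingleton.elim (⟦y⟧ : Quotient (orbitRel G (Fin 4 ↪ X))) ⟦x⟧)
    exact ⟨g, hg⟩⟩

end Cfsg.Agent.M24Uniq
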