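import Cfsg.Agent.Lib.M24Uniq.Basic

/-!
The interface between the local data at 7 and 5 and the small degrees: the characters of degree prime
to 7, respectively to 5, of a simple group of order 244823040 fall into three families.

At 7 the centraliser is `7 × S₃` and the three families belong to the three characters of the complement
(degrees `b = 1, 1, 2`, all fixed, `e = 3`). At 5 it is `5 × A₄`, the normaliser induces four automorphisms
and the families belong to the orbits on the characters of the complement: trivial, the two other linear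
characters (exchanged, or each fixed), the one of degree 3.
-/

set_option linter.unusedSectionVars false

namespace Cfsg.Agent.M24Uniq

open Cfsg Cfsg.Agent.Char Cfsg.Agent.Blocks
open Cfsg.Agent.M23Uniq (dg)

open scoped ComplexConjugate

universe u

variable {G : Type u} [Group G] [Fintype G]

/-- The sign of a degree relative to the residue `a`. -/
def rsgn (p a d : ℕ) : ℤ := if d % p = a then 1 else -1

/-- A family: `n` characters with degree residues `±a`, and `m` characters of one degree with residue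
`±c` agreeing on the `p`-regular elements, bound by one signed relation there. -/
structure Fam (p n m a c : ℕ) (X Y : Finset (IrrCharacter G)) : Prop where
  cardX : X.card = n
  cardY : Y.card = m
  degX : ∀ χ ∈ X, dg χ % p = a ∨ dg χ % p = p - a
  degY : ∀ θ ∈ Y, dg θ % p = c ∨ dg θ % p = p - c
  eqY : ∀ θ ∈ Y, ∀ θ' ∈ Y, dg θ = dg θ'
  rel : ∀ θ ∈ Y, ∀ g : G, ¬ p ∣ orderOf g →
    ∑ χ ∈ X, (rsgn p a (dg χ) : ℂ) * (χ : G → ℂ) g + (rsgn p c (dg θ) : ℂ) * (θ : G → ℂ) g = 0

/-- The sum of the values at an element and at its inverse on a family at 7 of multiplier `b`. -/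
def PairVal (a c : ℕ) (b : ℤ) (X Y : Finset (IrrCharacter G)) : Prop :=
  ∀ y : G, orderOf y = 7 →
    (∀ χ ∈ X, (χ : G → ℂ) y + (χ : G → ℂ) y⁻¹ = ((2 * b * rsgn 7 a (dg χ) : ℤ) : ℂ)) ∧
    ∀ θ ∈ Y, (θ : G → ℂ) y + (θ : G → ℂ) y⁻¹ = ((b * rsgn 7 c (dg θ) : ℤ) : ℂ)

/-- The data at 7. -/
structure Seven (G : Type u) [Group G] [Fintype G] : Prop where
  c7 : ∀ x : G, orderOf x = 7 → Nat.card (Subgroup.centralizer ({x} : Set G)) = 42
  zero : ∀ χ : IrrCharacter G, 7 ∣ dg χ → ∀ y : G, orderOf y = 7 → (χ : G → ℂ) y = 0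
  families : ∃ X₁ Y₁ X₂ Y₂ X₃ Y₃ : Finset (IrrCharacter G),
    Fam 7 3 2 1 4 X₁ Y₁ ∧ Fam 7 3 2 1 4 X₂ Y₂ ∧ Fam 7 3 2 2 1 X₃ Y₃ ∧ principal G ∈ X₁ ∧
    PairVal 1 4 1 X₁ Y₁ ∧ PairVal 1 4 1 X₂ Y₂ ∧ PairVal 2 1 2 X₃ Y₃ ∧
    (X₁.val + Y₁.val + (X₂.val + Y₂.val) + (X₃.val + Y₃.val) =
      ((Finset.univ : Finset (IrrCharacter G)).filter fun χ => ¬ 7 ∣ dg χ).val)

/-- The data at 5: only the families. Either the two nontrivial linear characters of the complement are
exchanged (`e = 2` for their orbit) or each is fixed, the two families then having the same degrees. -/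
structure Five (G : Type u) [Group G] [Fintype G] : Prop where
  families : ∃ X₁ Y₁ X₃ Y₃ : Finset (IrrCharacter G),
    Fam 5 4 1 1 1 X₁ Y₁ ∧ Fam 5 4 1 3 3 X₃ Y₃ ∧ (principal G ∈ X₁ ∨ principal G ∈ Y₁) ∧
    ((∃ X₂ Y₂ : Finset (IrrCharacter G), Fam 5 2 2 2 1 X₂ Y₂ ∧
      (X₁.val + Y₁.val + (X₂.val + Y₂.val) + (X₃.val + Y₃.val) =
        ((Finset.univ : Finset (IrrCharacter G)).filter fun χ => ¬ 5 ∣ dg χ).val)) ∨
    ∃ X₂ Y₂ X₄ Y₄ : Finset (IrrCharacter G), Fam 5 4 1 1 1 X₂ Y₂ ∧ Fam 5 4 1 1 1 X₄ Y₄ ∧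
      ((X₄.val + Y₄.val).map fun χ => dg χ) = ((X₂.val + Y₂.val).map fun χ => dg χ) ∧
      (X₁.val + Y₁.val + (X₂.val + Y₂.val + (X₄.val + Y₄.val)) + (X₃.val + Y₃.val) =
        ((Finset.univ : Finset (IrrCharacter G)).filter fun χ => ¬ 5 ∣ dg χ).val))

end Cfsg.Agent.M24Uniq
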