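import Cfsg.Agent.Lib.M24Uniq.Action
import Cfsg.Agent.Lib.M23Uniq.Main
import Cfsg.Agent.Lib.Steiner.Uniq24
import Cfsg.Agent.Lib.Steiner.AutTransfer
import Cfsg.Agent.Lib.Golay.M24
import Cfsg.Agent.S0369
import Mathlib.GroupTheory.GroupAction.Primitive

/-!
Recognition of the largest Mathieu group: point stabilisers are of the type of order 10200960 and the
fixed sets of suitable involutions form the S(5,8,24).
-/

set_option linter.unusedSectionVars false
set_option linter.style.haveILetI false

namespace Cfsg.Agent.M24Uniq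

open Cfsg MulAction
open scoped Pointwise
open Cfsg.Agent.M23Uniq (fixSet mem_fixSet fixSet_conj)

universe u

variable {G : Type u} [Group G] [Fintype G]

/-- Frattini: some Sylow normaliser covers the quotient. -/
theorem index_dvd_some_normalizer {H : Type u} [Group H] [Finite H] {p m : ℕ} [Fact p.Prime]
    (hcard : Nat.card H = p ^ 1 * m) (hm : ¬ p ∣ m) (N : Subgroup H) [N.Normal] (hpN : p ∣ Nat.card N) :
    ∃ P : Sylow p H, N.index ∣ Nat.card (Subgroup.normalizer ((P : Subgroup H) : Set H)) := by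
  obtain ⟨Q⟩ : Nonempty (Sylow p N) := inferInstance
  set R := (Q : Subgroup N).map N.subtype with hR
  have htop : Subgroup.normalizer (R : Set H) ⊔ N = ⊤ := Sylow.normalizer_sup_eq_top Q
  have hidx : N.index ∣ Nat.card (Subgroup.normalizer (R : Set H)) := by
    rw [← Subgroup.relIndex_top_right, ← htop, Subgroup.relIndex_sup_right]
    exact Subgroup.index_dvd_card _
  obtain ⟨P, hP⟩ := (Q.isPGroup'.map N.subtype : IsPGroup p R).exists_le_sylow
  have hne : Nat.card R ≠ 1 := fun e => Q.ne_bot_of_dvd_card hpN (Subgroup.card_eq_one.1 (by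
    rwa [Nat.card_congr (Subgroup.equivMapOfInjective _ N.subtype N.subtype_injective).toEquiv]))
  have hPc : Nat.card (P : Subgroup H) = p := by rw [Small.sylow_card hcard hm P, pow_one]
  have hd : Nat.card R ∣ p := hPc ▸ Subgroup.card_dvd_of_le hP
  have he : R = (P : Subgroup H) := Subgroup.eq_of_le_of_card_ge hP (by
    rw [hPc, ((Nat.dvd_prime Fact.out).1 hd).resolve_left hne])
  exact ⟨P, he ▸ hidx⟩

/-- The normaliser of a Sylow subgroup of order 23 of a subgroup. -/
theorem normalizer23_dvd (L : Locals G) [Fact (Nat.Prime 23)] (H : Subgroup G) (Q : Subgroup H)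
    (hQ : Nat.card Q = 23) : Nat.card (Subgroup.normalizer (Q : Set H)) ∣ 253 := by
  have hmap : Nat.card (Q.map H.subtype) = 23 := by
    rw [Subgroup.card_map_of_injective H.subtype_injective, hQ]
  obtain ⟨P, hP⟩ := (IsPGroup.of_card (n := 1) (by rw [hmap, pow_one]) :
    IsPGroup 23 (Q.map H.subtype)).exists_le_sylow
  have he : Q.map H.subtype = (P : Subgroup G) := Subgroup.eq_of_le_of_card_ge hP (by
    rw [hmap, L.sylow_card (by norm_num) (by norm_num) P])
  rw [← L.n23 P, ← he, ← Subgroup.card_map_of_injective (K := Subgroup.normalizer (Q : Set H))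
    H.subtype_injective]
  exact Subgroup.card_dvd_of_le (Subgroup.le_normalizer_map _)

/-- No element of order 11 normalises a group of order 7. -/
theorem not_eleven_dvd_normalizer (L : Locals G) [Fact (Nat.Prime 11)] (H : Subgroup G) (Q : Subgroup H)
    (hQ : Nat.card Q = 7) : ¬ 11 ∣ Nat.card (Subgroup.normalizer (Q : Set H)) := by
  intro h
  obtain ⟨y, hy⟩ := exists_prime_orderOf_dvd_card' (G := Subgroup.normalizer (Q : Set H)) 11 h
  have hy' : orderOf ((y : H) : G) = 11 := by rw [Subgroup.orderOf_coe, Subgroup.orderOf_coe, hy]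
  set K := Q.map H.subtype with hK
  have hK7 : Nat.card K = 7 := by rw [hK, Subgroup.card_map_of_injective H.subtype_injective, hQ]
  have hyN : ((y : H) : G) ∈ Subgroup.normalizer (K : Set G) :=
    Subgroup.le_normalizer_map H.subtype ⟨(y : H), y.2, rfl⟩
  have hmod := M23Uniq.fixed_modEq hy' (fun g => g ∈ K) fun a g ha hg =>
    (Subgroup.mem_normalizer_iff.1 ((Subgroup.zpowers_le.2 hyN) ha) g).1 hg
  rw [show Nat.card {g : G // g ∈ K} = 7 from hK7] at hmod
  obtain ⟨k, hk, hk1⟩ : ∃ k : G, (k ∈ K ∧ ((y : H) : G) * k = k * ((y : H) : G)) ∧ k ≠ 1 := by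
    by_contra hc
    push Not at hc
    have : Subsingleton {g : G // g ∈ K ∧ ((y : H) : G) * g = g * ((y : H) : G)} :=
      ⟨fun a b => Subtype.ext ((hc _ a.2).trans (hc _ b.2).symm)⟩
    have hle := Finite.card_le_one_iff_subsingleton.2 this
    rw [Nat.ModEq] at hmod
    omega
  have h1 : orderOf k ∣ 7 := hK7 ▸ Subgroup.orderOf_dvd_natCard K hk.1
  have h2 : orderOf k ∣ 11 := L.c11 _ hy' ▸ Subgroup.orderOf_dvd_natCard _
    (Subgroup.mem_centralizer_singleton_iff.2 hk.2.symm)
  exact hk1 (orderOf_eq_one_iff.1 (Nat.eq_one_of_dvd_coprimes (by norm_num : Nat.Coprime 7 11) h1 h2))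

theorem index_check : ∀ d ∈ Nat.divisors 253, ¬ 23 ∣ d → d = 1 ∨ d = 11 := by decide +kernel

variable {X : Type} [Fintype X] [DecidableEq X] [MulAction G X] [FaithfulSMul G X]

theorem card_stabilizer (L : Locals G) [IsPretransitive G X] (hX : Fintype.card X = 24) (p : X) :
    Nat.card (stabilizer G p) = 10200960 := by
  have h := Subgroup.card_mul_index (stabilizer G p)
  rw [index_stabilizer_of_transitive, L.card, Nat.card_eq_fintype_card (α := X), hX] at h
  omega

theorem card_ofStabilizer (hX : Fintype.card X = 24) (p : X) :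
    Nat.card (SubMulAction.ofStabilizer G p) = 23 := by
  rw [SubMulAction.nat_card_ofStabilizer_eq, Nat.card_eq_fintype_card, hX]

instance faithful_ofStabilizer (p : X) : FaithfulSMul (stabilizer G p) (SubMulAction.ofStabilizer G p) :=
  ⟨fun {g h} hgh => Subtype.ext (eq_of_smul_eq_smul fun q : X => by
    by_cases hq : q = p
    · rw [hq, show (g : G) • p = p from g.2, show (h : G) • p = p from h.2]
    · exact congrArg Subtype.val (hgh ⟨q, hq⟩))⟩

/-- The stabiliser of a point is simple. -/
theorem stabilizer_simple (L : Locals G) [IsPretransitive G X] [IsMultiplyPretransitive G X 4]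
    (hX : Fintype.card X = 24) (p : X) : IsSimpleGroup (stabilizer G p) := by
  classical
  haveI : Fact (Nat.Prime 23) := ⟨by norm_num⟩
  haveI : Fact (Nat.Prime 11) := ⟨by norm_num⟩
  haveI : Fact (Nat.Prime 7) := ⟨by norm_num⟩
  set H := stabilizer G p
  have hH : Nat.card H = 10200960 := card_stabilizer L hX p
  have h23 : Nat.card (SubMulAction.ofStabilizer G p) = 23 := card_ofStabilizer hX p
  haveI h3 : IsMultiplyPretransitive H (SubMulAction.ofStabilizer G p) 3 :=
    SubMulAction.ofStabilizer.isMultiplyPretransitive.1 inferInstance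
  haveI : IsPreprimitive H (SubMulAction.ofStabilizer G p) :=
    isPreprimitive_of_is_two_pretransitive
      (isMultiplyPretransitive_of_le (n := 3) (by norm_num) (by rw [h23]; norm_num))
  haveI : Nontrivial H := Finite.one_lt_card_iff_nontrivial.1 (by rw [hH]; norm_num)
  refine ⟨fun N hN => or_iff_not_imp_left.2 fun hne => ?_⟩
  haveI := hN
  have hfix : fixedPoints N (SubMulAction.ofStabilizer G p) ≠ Set.univ := by
    intro e
    refine hne ((Subgroup.eq_bot_iff_forall _).2 fun n hn => ?_)
    refine eq_of_smul_eq_smul fun q : SubMulAction.ofStabilizer G p => ?_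
    rw [one_smul]
    exact (Set.eq_univ_iff_forall.1 e q) ⟨n, hn⟩
  haveI : IsPretransitive N (SubMulAction.ofStabilizer G p) :=
    IsQuasiPreprimitive.isPretransitive_of_normal hfix
  obtain ⟨q⟩ : Nonempty (SubMulAction.ofStabilizer G p) := (Nat.card_pos_iff.1 (by omega)).1
  have h23N : 23 ∣ Nat.card N := by
    rw [← h23, ← index_stabilizer_of_transitive N q]
    exact Subgroup.index_dvd_card _
  have hmul := Subgroup.card_mul_index N
  rw [hH] at hmul
  obtain ⟨Q, hQ⟩ := index_dvd_some_normalizer (p := 23) (m := 443520) (by rw [hH]; norm_num) (by norm_num) N h23N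
  have hQc : Nat.card (Q : Subgroup H) = 23 := by
    rw [Small.sylow_card (m := 443520) (k := 1) (by rw [hH]; norm_num) (by norm_num) Q, pow_one]
  have h253 := hQ.trans (normalizer23_dvd L H Q hQc)
  have hn23 : ¬ 23 ∣ N.index := by
    intro h
    have := Nat.mul_dvd_mul h23N h
    rw [hmul] at this
    norm_num at this
  rcases index_check _ (Nat.mem_divisors.2 ⟨h253, by norm_num⟩) hn23 with h | h
  · exact Subgroup.index_eq_one.1 h
  exfalso
  rw [h] at hmul
  obtain ⟨R, hR⟩ := index_dvd_some_normalizer (p := 7) (m := 1457280) (by rw [hH]; norm_num) (by norm_num) N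
    (by omega)
  rw [h] at hR
  exact not_eleven_dvd_normalizer L H R (by
    rw [Small.sylow_card (m := 1457280) (k := 1) (by rw [hH]; norm_num) (by norm_num) R, pow_one]) hR

/-- The blocks: the conjugates of the eight fixed points of an involution commuting with an element of
order 7. -/
theorem exists_steiner (p : X) [IsMultiplyPretransitive G X 5] [Fintype (stabilizer G p)]
    [Fintype (SubMulAction.ofStabilizer G p)]
    [IsPretransitive (stabilizer G p) (SubMulAction.ofStabilizer G p)]
    [IsMultiplyPretransitive (stabilizer G p) (SubMulAction.ofStabilizer G p) 4]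
    (L' : M23Uniq.Locals (stabilizer G p))
    {χ a b : IrrCharacter (stabilizer G p)} (E : M23Uniq.Chi22 χ a b)
    (hX' : Fintype.card (SubMulAction.ofStabilizer G p) = 23) :
    ∃ B : Set (Finset X), IsSteinerSystem 5 8 B ∧ ∀ (g : G), ∀ s ∈ B, s.image (fun q => g • q) ∈ B := by
  classical
  haveI : Fact (Nat.Prime 7) := ⟨by norm_num⟩
  haveI : Fact (Nat.Prime 2) := ⟨by norm_num⟩
  obtain ⟨x, hx⟩ := exists_prime_orderOf_dvd_card' (G := stabilizer G p) 7 (by rw [L'.card]; norm_num)
  obtain ⟨z', hz'⟩ := exists_prime_orderOf_dvd_card'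
    (G := Subgroup.centralizer ({x} : Set (stabilizer G p))) 2 (by rw [L'.c7 x hx]; norm_num)
  set z : stabilizer G p := (z' : stabilizer G p) with hzdef
  have hz : orderOf z = 2 := by rw [Subgroup.orderOf_coe]; exact hz'
  have hxz : x * z = z * x := (Subgroup.mem_centralizer_singleton_iff.1 z'.2).symm
  set F := fixSet (SubMulAction.ofStabilizer G p) z with hF
  have hF7 : F.card = 7 := M23Uniq.card_fix_seven L' E hX' hx hz hxz
  set F8 := fixSet X (z : G) with hF8def
  have hF8eq : F8 = insert p (F.map (Function.Embedding.subtype _)) := by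
    ext q
    rw [hF8def, mem_fixSet, Finset.mem_insert, Finset.mem_map]
    by_cases hq : q = p
    · exact iff_of_true (hq.symm ▸ z.2) (Or.inl hq)
    constructor
    · exact fun h => Or.inr ⟨⟨q, hq⟩, mem_fixSet.2 (Subtype.ext h), rfl⟩
    · rintro (h | ⟨r, hr, rfl⟩)
      · exact absurd h hq
      · exact congrArg Subtype.val (mem_fixSet.1 hr)
  have hF8 : F8.card = 8 := by
    rw [hF8eq, Finset.card_insert_of_notMem (fun h => by
      obtain ⟨r, -, hr⟩ := Finset.mem_map.1 h
      exact r.2 hr), Finset.card_map, hF7]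
  obtain ⟨t₀, ht₀, ht₀c⟩ := Finset.exists_subset_card_eq (show 4 ≤ F.card by omega)
  let e4 : Fin 4 ↪ SubMulAction.ofStabilizer G p :=
    (t₀.equivFinOfCardEq ht₀c).symm.toEmbedding.trans (Function.Embedding.subtype _)
  have he4 : ∀ i, e4 i ∈ F := fun i => ht₀ ((t₀.equivFinOfCardEq ht₀c).symm i).2
  let e₀ : Fin 5 ↪ X := SubMulAction.ofStabilizer.snoc e4
  have he₀ : ∀ i, e₀ i ∈ F8 := fun i => by
    rw [hF8eq]
    refine Fin.lastCases ?_ (fun j => ?_) i
    · exact Finset.mem_insert.2 (Or.inl (SubMulAction.ofStabilizer.snoc_last e4))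
    · exact Finset.mem_insert_of_mem
        (Finset.mem_map.2 ⟨e4 j, he4 j, (SubMulAction.ofStabilizer.snoc_castSucc e4 j).symm⟩)
  have hkey : ∀ w : G, orderOf w = 2 → (∀ i, w • e₀ i = e₀ i) → ∀ q ∈ F8, w • q = q := by
    intro w hw hwe
    have hwp : w • p = p := by
      have := hwe (Fin.last 4)
      rwa [show e₀ (Fin.last 4) = p from SubMulAction.ofStabilizer.snoc_last e4] at this
    set w' : stabilizer G p := ⟨w, hwp⟩
    have hw' : orderOf w' = 2 := (Subgroup.orderOf_coe w').symm.trans hw
    have hwe' : ∀ i, w' • e4 i = e4 i := fun i => Subtype.ext (by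
      have := hwe i.castSucc
      rw [show e₀ i.castSucc = (e4 i : X) from SubMulAction.ofStabilizer.snoc_castSucc e4 i] at this
      exact this)
    have hfix := M23Uniq.fixer_involution_fix L' E hX' hx hz hxz e4 he4 hw' hwe'
    intro q hq
    rw [hF8eq, Finset.mem_insert, Finset.mem_map] at hq
    rcases hq with rfl | ⟨r, hr, rfl⟩
    · exact hwp
    · exact congrArg Subtype.val (hfix r hr)
  refine ⟨{s | ∃ g : G, s = F8.image (fun q => g • q)}, ⟨?_, ?_⟩, ?_⟩
  · rintro _ ⟨g, rfl⟩
    rw [Finset.card_image_of_injective _ (MulAction.injective g), hF8]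
  · intro t ht
    let e : Fin 5 ↪ X := (t.equivFinOfCardEq ht).symm.toEmbedding.trans (Function.Embedding.subtype _)
    obtain ⟨g, hg⟩ := exists_smul_eq G e₀ e
    have hge : ∀ i, g • e₀ i = e i := fun i => congrArg (fun f : Fin 5 ↪ X => f i) hg
    have hsurj : ∀ q ∈ t, ∃ i, e i = q := fun q hq =>
      ⟨t.equivFinOfCardEq ht ⟨q, hq⟩, by simp [e]⟩
    refine ⟨F8.image (fun q => g • q), ⟨⟨g, rfl⟩, fun q hq => ?_⟩, ?_⟩
    · obtain ⟨i, rfl⟩ := hsurj q hq
      exact Finset.mem_image.2 ⟨_, he₀ i, hge i⟩
    rintro _ ⟨⟨k, rfl⟩, hk⟩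
    set c := g⁻¹ * k with hc
    have hw : orderOf (c * (z : G) * c⁻¹) = 2 := by
      rw [← MulAut.conj_apply, MulEquiv.orderOf_eq, Subgroup.orderOf_coe, hz]
    have hwe : ∀ i, (c * (z : G) * c⁻¹) • e₀ i = e₀ i := by
      intro i
      rw [← mem_fixSet, fixSet_conj, Finset.mem_image]
      obtain ⟨q, hq, hqe⟩ := Finset.mem_image.1 (hk (((t.equivFinOfCardEq ht).symm i).2 :
        ((t.equivFinOfCardEq ht).symm i : X) ∈ t))
      refine ⟨q, hq, ?_⟩
      rw [hc, mul_smul, hqe]
      exact inv_smul_eq_iff.2 (hge i).symm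
    have hsub : F8 ⊆ fixSet X (c * (z : G) * c⁻¹) := fun q hq => mem_fixSet.2 (hkey _ hw hwe q hq)
    rw [fixSet_conj] at hsub
    have heq : F8 = F8.image (fun q => c • q) := Finset.eq_of_subset_of_card_le hsub
      (by rw [Finset.card_image_of_injective _ (MulAction.injective c)])
    conv_rhs => rw [heq]
    rw [Finset.image_image]
    exact Finset.image_congr fun q _ => by simp [hc, mul_smul]
  · rintro g _ ⟨k, rfl⟩
    exact ⟨g * k, by rw [Finset.image_image]; exact Finset.image_congr fun q _ => (mul_smul g k q).symm⟩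

omit [Fintype G] in
/-- The recognition. -/
theorem nonempty_equiv {G : Type u} [Group G] [Fintype G] (L : Locals G) (S : Small G)
    (hL : ∀ (H : Type u) [Group H] [Finite H], IsM23 H → M23Uniq.Locals H) :
    Nonempty (G ≃* ↥Cfsg.M24) := by
  classical
  obtain ⟨χ, a, b, E⟩ := exists_chi23 L S
  obtain ⟨X, _, φ, hX, hinj, htr⟩ := exists_action24 L E
  letI : MulAction G X := MulAction.compHom X φ
  haveI : IsPretransitive G X := ⟨htr⟩
  haveI : FaithfulSMul G X := ⟨fun h => hinj (Equiv.ext h)⟩
  haveI := four_transitive (X := X) L S E hX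
  obtain ⟨p⟩ : Nonempty X := Fintype.card_pos_iff.1 (by omega)
  haveI : Fintype (stabilizer G p) := Fintype.ofFinite _
  haveI : Fintype (SubMulAction.ofStabilizer G p) := Fintype.ofFinite _
  have L' : M23Uniq.Locals (stabilizer G p) :=
    hL _ ⟨stabilizer_simple L hX p, card_stabilizer L hX p⟩
  have hX' : Fintype.card (SubMulAction.ofStabilizer G p) = 23 := by
    rw [← Nat.card_eq_fintype_card, card_ofStabilizer hX p]
  haveI h3 : IsMultiplyPretransitive (stabilizer G p) (SubMulAction.ofStabilizer G p) 3 :=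
    SubMulAction.ofStabilizer.isMultiplyPretransitive.1 inferInstance
  haveI : IsPretransitive (stabilizer G p) (SubMulAction.ofStabilizer G p) :=
    is_one_pretransitive_iff.1 (isMultiplyPretransitive_of_le (n := 3) (by norm_num)
      (by rw [card_ofStabilizer hX p]; norm_num))
  obtain ⟨χ', a', b', E'⟩ := M23Uniq.exists_chi22 L'
  haveI := M23Uniq.four_transitive (X := SubMulAction.ofStabilizer G p) L' E' hX'
  haveI : IsMultiplyPretransitive G X 5 :=
    SubMulAction.ofStabilizer.isMultiplyPretransitive.2 (inferInstance :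
      IsMultiplyPretransitive (stabilizer G p) (SubMulAction.ofStabilizer G p) 4)
  obtain ⟨B, hB, hinv⟩ := exists_steiner (X := X) p L' E' hX'
  obtain ⟨e, he⟩ := Steiner.exists_iso_octads hX hB
  let ψ : ↥Cfsg.M24 ≃* ↥(setSystemAut B) :=
    (MulEquiv.subgroupCongr S0369.result).trans (Steiner.autEquiv e he)
  have hmem : ∀ g, φ g ∈ setSystemAut B := by
    intro g
    rw [mem_stabilizer_iff]
    ext s
    rw [Set.mem_smul_set_iff_inv_smul_mem, Finset.smul_finset_def]
    constructor
    · intro h
      have h' := hinv g _ h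
      rw [Finset.image_image] at h'
      have e1 : ((fun p => g • p) ∘ fun x => (φ g)⁻¹ • x) = (id : X → X) :=
        funext fun p => (φ g).apply_symm_apply p
      rwa [e1, Finset.image_id] at h'
    · intro h
      have h' := hinv g⁻¹ _ h
      rwa [Finset.image_congr (g := fun p => (φ g)⁻¹ • p) fun p _ => by
        show φ g⁻¹ p = (φ g)⁻¹ p
        rw [map_inv]] at h'
  let f : G →* ↥(setSystemAut B) := φ.codRestrict _ hmem
  have hcard : Nat.card ↥(setSystemAut B) = 244823040 := by
    rw [← Nat.card_congr ψ.toEquiv, Golay.card_M24]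
  have hbij : Function.Bijective f := (Nat.bijective_iff_injective_and_card f).2
    ⟨fun g h hgh => hinj (congrArg Subtype.val hgh), L.card.trans hcard.symm⟩
  exact ⟨(MulEquiv.ofBijective f hbij).trans ψ.symm⟩

end Cfsg.Agent.M24Uniq
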