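import Cfsg.Agent.Lib.M24Uniq.Basic
import Cfsg.Agent.Lib.M12Uniq.SymSquare
import Cfsg.Agent.Lib.M12Uniq.Tools
import Cfsg.Agent.Lib.Char.Indicator

/-!
The character of degree 23 of a simple group of order 244823040 and the constituents of its two squares.
-/

set_option linter.unusedSectionVars false
set_option linter.style.haveILetI false

namespace Cfsg.Agent.M24Uniq

open Cfsg Cfsg.Agent.Char Cfsg.Agent.Blocks Cfsg.Agent.DefOne Module
open Cfsg.Agent.M23Uniq (dg tsum' fsum fsum_const dg_principal eq_single)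

open scoped ComplexConjugate

universe u

variable {G : Type u} [Group G] [Fintype G]

/-- A character of degree 23 with the constituents of its two squares. -/
structure Chi23 (χ a b : IrrCharacter G) : Prop where
  deg : dg χ = 23
  dega : dg a = 252
  degb : dg b = 253
  real : ∀ g, conj ((χ : G → ℂ) g) = (χ : G → ℂ) g
  symSq : ∀ g, ((χ : G → ℂ) g * (χ : G → ℂ) g + (χ : G → ℂ) (g * g)) / 2 =
    (principal G : G → ℂ) g + (χ : G → ℂ) g + (a : G → ℂ) g
  extSq : ∀ g, ((χ : G → ℂ) g * (χ : G → ℂ) g - (χ : G → ℂ) (g * g)) / 2 = (b : G → ℂ) g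

theorem real_of_unique {χ : IrrCharacter G} (huniq : ∀ ψ : IrrCharacter G, dg ψ = dg χ → ψ = χ) (g : G) :
    conj ((χ : G → ℂ) g) = (χ : G → ℂ) g := by
  have h1 : DefOne.galT (starRingAut (R := ℂ)) χ = χ := huniq _ (by
    have h2 : ((dg (DefOne.galT (starRingAut (R := ℂ)) χ) : ℂ)) = (dg χ : ℂ) := by
      rw [← irr_one_eq_charDegree, ← irr_one_eq_charDegree, DefOne.galT_one]
    exact_mod_cast h2)
  have h3 := DefOne.galT_apply (starRingAut (R := ℂ)) χ g
  rw [h1] at h3
  exact h3.symm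

/-- The value at an element of order 11. -/
theorem value11 (L : Locals G) {χ : IrrCharacter G} (hdeg : dg χ = 23)
    (huniq : ∀ ψ : IrrCharacter G, dg ψ = dg χ → ψ = χ) {y : G} (hy : orderOf y = 11) :
    (χ : G → ℂ) y = 1 := by
  classical
  haveI : Fact (Nat.Prime 11) := ⟨by norm_num⟩
  obtain ⟨a, ha⟩ := M12Uniq.exists_int_of_unique χ (fun ψ h => huniq ψ (by
    rw [irr_one_eq_charDegree, irr_one_eq_charDegree] at h
    exact_mod_cast h)) y
  have hdvd := M12Uniq.dvd_sub_deg (p := 11) (IsIrrCharacter.isCharacter χ.2) (irr_one_eq_charDegree χ)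
    (k := 1) (g := y) (by rw [pow_one, hy]) ha
  rw [show charDegree (χ : G → ℂ) = 23 from hdeg] at hdvd
  have hne : χ ≠ principal G := fun e => by rw [e, dg_principal] at hdeg; omega
  have hle := M12Uniq.sum_sq_le y {principal G, χ} (fun ψ => if ψ = χ then a else 1) (by
    intro ψ hψ
    rcases Finset.mem_insert.1 hψ with rfl | h
    · rw [if_neg hne.symm, Int.cast_one]; rfl
    · rw [Finset.mem_singleton.1 h, if_pos rfl, ha])
  rw [Finset.sum_pair hne.symm, if_neg hne.symm, if_pos rfl, L.c11 y hy] at hle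
  have h4 : -4 < a ∧ a < 4 := by
    push_cast at hle
    constructor <;> nlinarith [sq_nonneg (a - 4), sq_nonneg (a + 4)]
  obtain ⟨h1, h2⟩ := h4
  push_cast at hdvd
  rw [ha, show a = 1 by omega, Int.cast_one]

theorem orderOf_sq {p : ℕ} (hp : p.Prime) (hp2 : 2 < p) {y : G} (hy : orderOf y = p) :
    orderOf (y * y) = p := by
  rw [← pow_two, orderOf_pow' y two_ne_zero, hy,
    (Nat.coprime_primes hp Nat.prime_two).2 (by omega), Nat.div_one]

theorem orderOf_mem {p : ℕ} (hp : p.Prime) {Q : Subgroup G} (hQ : Nat.card Q = p) {y : G} (hy : y ∈ Q)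
    (hy1 : y ≠ 1) : orderOf y = p :=
  ((Nat.dvd_prime hp).1 (hQ ▸ Subgroup.orderOf_dvd_natCard Q hy)).resolve_left
    fun e => hy1 (orderOf_eq_one_iff.1 e)

set_option maxHeartbeats 1600000 in
theorem exists_chi23 (L : Locals G) (S : Small G) : ∃ χ a b : IrrCharacter G, Chi23 χ a b := by
  classical
  haveI : Fact (Nat.Prime 23) := ⟨by norm_num⟩
  haveI : Fact (Nat.Prime 11) := ⟨by norm_num⟩
  obtain ⟨Q₁⟩ : Nonempty (Sylow 23 G) := inferInstance
  obtain ⟨Q₂⟩ : Nonempty (Sylow 11 G) := inferInstance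
  haveI : Fintype (Q₁ : Subgroup G) := Fintype.ofFinite _
  haveI : Fintype (Q₂ : Subgroup G) := Fintype.ofFinite _
  have hQ₁ : Nat.card (Q₁ : Subgroup G) = 23 := L.sylow_card (by norm_num) (by norm_num) Q₁
  have hQ₂ : Nat.card (Q₂ : Subgroup G) = 11 := L.sylow_card (by norm_num) (by norm_num) Q₂
  obtain ⟨χ, hdeg⟩ := S.exists23
  have huniq : ∀ ψ : IrrCharacter G, dg ψ = dg χ → ψ = χ := fun ψ h => S.unique23 ψ χ (h.trans hdeg) hdeg
  have hreal := real_of_unique huniq
  have hχ1 : (χ : G → ℂ) 1 = 23 := by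
    rw [irr_one_eq_charDegree, show charDegree (χ : G → ℂ) = 23 from hdeg]; norm_num
  have hu23 : ∀ y ∈ (Q₁ : Subgroup G), y ≠ 1 → (χ : G → ℂ) y = 0 ∧ (χ : G → ℂ) (y * y) = 0 := by
    intro y hy hy1
    have ho := orderOf_mem (by norm_num) hQ₁ hy hy1
    exact ⟨value23 L (by rw [hdeg]) ho,
      value23 L (by rw [hdeg]) (orderOf_sq (by norm_num) (by norm_num) ho)⟩
  have hu11 : ∀ y ∈ (Q₂ : Subgroup G), y ≠ 1 → (χ : G → ℂ) y = 1 ∧ (χ : G → ℂ) (y * y) = 1 := by
    intro y hy hy1
    have ho := orderOf_mem (by norm_num) hQ₂ hy hy1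
    exact ⟨value11 L hdeg huniq ho, value11 L hdeg huniq (orderOf_sq (by norm_num) (by norm_num) ho)⟩
  have hcharA := DegreePTwo.isCharacter_extSquare (IsIrrCharacter.isCharacter χ.2)
  have hcharS := M12Uniq.isCharacter_symSquare (IsIrrCharacter.isCharacter χ.2)
  obtain ⟨mA, hmA, hsA, a1, a2, a3⟩ := constituents L S Q₁ Q₂ hcharA (D := 253) (by rw [one_mul, hχ1]; norm_num)
    (by norm_num) (v₁ := 0) (v₂ := 0)
    (by rw [fsum_const _ (c := 0) fun y hy hy1 => by
        obtain ⟨h1, h2⟩ := hu23 y hy hy1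
        rw [h1, h2]; norm_num]
        simp)
    (by rw [fsum_const _ (c := 0) fun y hy hy1 => by
        obtain ⟨h1, h2⟩ := hu11 y hy hy1
        rw [h1, h2]; norm_num]
        simp)
  obtain ⟨mS, hmS, hsS, s1, s2, s3⟩ := constituents L S Q₁ Q₂ hcharS (D := 276) (by rw [one_mul, hχ1]; norm_num)
    le_rfl (v₁ := 0) (v₂ := 10)
    (by rw [fsum_const _ (c := 0) fun y hy hy1 => by
        obtain ⟨h1, h2⟩ := hu23 y hy hy1
        rw [h1, h2]; norm_num]
        simp)
    (by rw [fsum_const _ (c := 1) fun y hy hy1 => by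
        obtain ⟨h1, h2⟩ := hu11 y hy hy1
        rw [h1, h2]; norm_num]
        rw [hQ₂]; norm_num)
  have hone1 : ∀ (m : IrrCharacter G → ℕ), mult m 1 = m (principal G) := fun m =>
    mult_eq (fun φ h => L.eq_principal h) dg_principal
  have hA : classInner (∑ ψ, (mA ψ : ℂ) • (ψ : G → ℂ)) (principal G : G → ℂ) = (mA (principal G) : ℂ) :=
    classInner_combination _ _
  have hS : classInner (∑ ψ, (mS ψ : ℂ) • (ψ : G → ℂ)) (principal G : G → ℂ) = (mS (principal G) : ℂ) :=
    classInner_combination _ _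
  -- the indicator
  have hν : (Nat.card G : ℂ)⁻¹ * ∑ g : G, (χ : G → ℂ) (g * g) = 1 := by
    obtain ⟨n, ρ, hρ, hρχ⟩ := χ.2
    haveI := hρ
    have hn : n = 23 := by
      have h := congrFun hρχ 1
      rw [Representation.char_one, finrank_pi, Fintype.card_fin, hχ1] at h
      exact_mod_cast h
    rw [← hρχ]
    exact Char.indicator_one_of_odd ρ (by rw [hρχ]; exact hreal) (by rw [hn]; decide)
  have hone : mA (principal G) + mS (principal G) = 1 ∧ mS (principal G) = mA (principal G) + 1 := by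
    constructor
    · have hadd : classInner (∑ ψ, (mA ψ : ℂ) • (ψ : G → ℂ)) (principal G : G → ℂ) +
          classInner (∑ ψ, (mS ψ : ℂ) • (ψ : G → ℂ)) (principal G : G → ℂ) = 1 := by
        rw [← classInner_add_left, ← hmA, ← hmS, ← classInner_self_irr χ.2]
        simp only [classInner]
        congr 1
        refine Finset.sum_congr rfl fun g _ => ?_
        rw [hreal g, show conj ((principal G : G → ℂ) g) = 1 from map_one _]
        show (_ + _) * (1 : ℂ) = _
        ring
      rw [hA, hS] at hadd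
      exact_mod_cast hadd
    · have hsub : classInner (∑ ψ, (mS ψ : ℂ) • (ψ : G → ℂ)) (principal G : G → ℂ) -
          classInner (∑ ψ, (mA ψ : ℂ) • (ψ : G → ℂ)) (principal G : G → ℂ) = 1 := by
        rw [← hmA, ← hmS, ← hν]
        simp only [classInner, ← mul_sub, ← Finset.sum_sub_distrib]
        congr 1
        refine Finset.sum_congr rfl fun g _ => ?_
        rw [show conj ((principal G : G → ℂ) g) = 1 from map_one _]
        ring
      rw [hA, hS, sub_eq_iff_eq_add'] at hsub
      exact_mod_cast hsub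
  rw [← hone1 mA, ← hone1 mS] at hone
  obtain ⟨o1, o2⟩ := hone
  have ea : mult mA 1 = 0 ∧ mult mA 23 = 0 ∧ mult mA 45 = 0 ∧ mult mA 231 = 0 ∧ mult mA 252 = 0 ∧
      mult mA 253 = 1 := by omega
  have es : mult mS 1 = 1 ∧ mult mS 23 = 1 ∧ mult mS 45 = 0 ∧ mult mS 231 = 0 ∧ mult mS 252 = 1 ∧
      mult mS 253 = 0 := by omega
  -- the two constituents
  have hex : ∀ (m : IrrCharacter G → ℕ) (d : ℕ), mult m d = 1 → ∃ ψ : IrrCharacter G, dg ψ = d ∧ m ψ = 1 ∧
      ∀ φ : IrrCharacter G, dg φ = d → φ ≠ ψ → m φ = 0 := by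
    intro m d h
    obtain ⟨ψ, hψ, hne⟩ := Finset.exists_ne_zero_of_sum_ne_zero
      (show ∑ ψ ∈ Finset.univ.filter (fun ψ : IrrCharacter G => dg ψ = d), m ψ ≠ 0 by
        change mult m d ≠ 0; omega)
    have hd := (Finset.mem_filter.1 hψ).2
    have h1 := le_mult m ψ
    rw [hd, h] at h1
    refine ⟨ψ, hd, by omega, fun φ hφ hne' => ?_⟩
    have h2 : m φ + m ψ ≤ mult m d := by
      rw [← Finset.sum_pair hne', mult]
      refine Finset.sum_le_sum_of_subset fun ω hω => ?_
      rcases Finset.mem_insert.1 hω with rfl | hω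
      · exact Finset.mem_filter.2 ⟨Finset.mem_univ _, hφ⟩
      · rw [Finset.mem_singleton.1 hω]; exact hψ
    omega
  obtain ⟨b, hb, hmb, hbo⟩ := hex mA 253 ea.2.2.2.2.2
  obtain ⟨a, ha, hma, hao⟩ := hex mS 252 es.2.2.2.2.1
  have hAeq : ∑ ψ, (mA ψ : ℂ) • (ψ : G → ℂ) = (b : G → ℂ) := by
    refine eq_single hmb fun ψ hψ => ?_
    by_contra h0
    have hd := hsA ψ h0
    have h := le_mult mA ψ
    simp only [smallList, List.mem_cons, List.not_mem_nil, or_false] at hd
    rcases hd with r | r | r | r | r | r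
    all_goals first
      | (rw [r] at h; omega)
      | exact h0 (hbo ψ r hψ)
  have hSeq : ∑ ψ, (mS ψ : ℂ) • (ψ : G → ℂ) = (principal G : G → ℂ) + (χ : G → ℂ) + (a : G → ℂ) := by
    have hm1 : mS (principal G) = 1 := (hone1 mS).symm.trans es.1
    have hm2 : mS χ = 1 := (mult_eq (fun φ h => huniq φ (h.trans hdeg.symm)) hdeg).symm.trans es.2.1
    have n1 : principal G ≠ χ := fun e => by rw [← e, dg_principal] at hdeg; omega
    have n2 : principal G ≠ a := fun e => by rw [← e, dg_principal] at ha; omega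
    have n3 : χ ≠ a := fun e => by rw [e, ha] at hdeg; omega
    rw [← Finset.sum_subset (Finset.subset_univ {principal G, χ, a}) fun ψ _ hψ => by
      simp only [Finset.mem_insert, Finset.mem_singleton, not_or] at hψ
      obtain ⟨q1, q2, q3⟩ := hψ
      suffices mS ψ = 0 by rw [this, Nat.cast_zero, zero_smul]
      by_contra h0
      have hd := hsS ψ h0
      have h := le_mult mS ψ
      simp only [smallList, List.mem_cons, List.not_mem_nil, or_false] at hd
      rcases hd with r | r | r | r | r | r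
      · exact q1 (L.eq_principal r)
      · exact q2 (huniq ψ (r.trans hdeg.symm))
      · rw [r] at h; omega
      · rw [r] at h; omega
      · exact h0 (hao ψ r q3)
      · rw [r] at h; omega,
      Finset.sum_insert (by simp [n1, n2]), Finset.sum_pair n3, hm1, hm2, hma, Nat.cast_one, one_smul,
      one_smul, one_smul, add_assoc]
  exact ⟨χ, a, b, hdeg, ha, hb, hreal, fun g => congrFun (hmS.trans hSeq) g,
    fun g => congrFun (hmA.trans hAeq) g⟩

theorem Chi23.ne {χ a b : IrrCharacter G} (E : Chi23 χ a b) :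
    χ ≠ principal G ∧ a ≠ principal G ∧ b ≠ principal G ∧ χ ≠ a ∧ χ ≠ b ∧ a ≠ b := by
  have h := E.deg; have ha := E.dega; have hb := E.degb
  have hp := dg_principal (G := G)
  refine ⟨?_, ?_, ?_, ?_, ?_, ?_⟩ <;> intro e <;> subst e <;> omega

theorem Chi23.sq_eq {χ a b : IrrCharacter G} (E : Chi23 χ a b) (g : G) :
    (χ : G → ℂ) g * (χ : G → ℂ) g =
      (principal G : G → ℂ) g + (χ : G → ℂ) g + (a : G → ℂ) g + (b : G → ℂ) g := by
  linear_combination E.symSq g + E.extSq g

end Cfsg.Agent.M24Uniq
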